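import Mathlib.RingTheory.Nullstellensatz
import Mathlib.RingTheory.MvPolynomial.Homogeneous
import Mathlib.LinearAlgebra.Matrix.NonsingularInverse
import Mathlib.Data.Finsupp.Weight

/-!
# Elimination for families of homogeneous equations
-/

set_option autoImplicit false

universe u

namespace Groth.Agent.LefDual

open MvPolynomial

variable {k : Type u} [Field k] {ι : Type*} {n : ℕ}

theorem homogeneousComponent_mul_of {R σ : Type*} [CommRing R] {p q : MvPolynomial σ R} {e N : ℕ}
    (hq : q.IsHomogeneous e) (he : e ≤ N) :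
    homogeneousComponent N (p * q) = homogeneousComponent (N - e) p * q := by
  classical
  conv_lhs => rw [← sum_homogeneousComponent p, Finset.sum_mul, map_sum]
  have hc : ∀ i, homogeneousComponent N (homogeneousComponent i p * q) =
      if i = N - e then homogeneousComponent i p * q else 0 := fun i => by
    have hi : (homogeneousComponent i p * q).IsHomogeneous (i + e) := (homogeneousComponent_isHomogeneous i p).mul hq
    rw [homogeneousComponent_of_mem hi]
    by_cases h : i = N - e
    · rw [if_pos h, if_pos (by omega)]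
    · rw [if_neg h, if_neg (by omega)]
  simp only [hc]
  rw [Finset.sum_ite_eq']
  split_ifs with h
  · rfl
  · rw [homogeneousComponent_eq_zero _ _ (by simp at h; omega), zero_mul]

theorem eval_eq_sum_degree {R : Type*} [CommRing R] {σ : Type*} [Fintype σ] {M : ℕ} [Fintype {β : σ →₀ ℕ // β.degree = M}]
    {p : MvPolynomial σ R} (hp : p.IsHomogeneous M) (v : σ → R) :
    eval v p = ∑ γ : {β : σ →₀ ℕ // β.degree = M}, coeff γ.1 p * ∏ j, v j ^ γ.1 j := by
  classical
  rw [eval_eq', ← Finset.sum_subtype ((Finset.univ : Finset {β : σ →₀ ℕ // β.degree = M}).map (Function.Embedding.subtype _))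
    (fun x => by simp) (fun γ => coeff γ p * ∏ j, v j ^ γ j)]
  refine Finset.sum_subset (fun d hd => ?_) fun d _ hd => ?_
  · simp only [Finset.mem_map, Finset.mem_univ, true_and, Function.Embedding.coe_subtype]
    refine ⟨⟨d, ?_⟩, rfl⟩
    by_contra hdeg
    exact (mem_support_iff.1 hd) (hp.coeff_eq_zero hdeg)
  · rw [notMem_support_iff.1 hd, zero_mul]

/-- The parameters for which homogeneous equations have only the trivial common zero form an open set. -/
theorem exists_poly_no_zero [IsAlgClosed k] {κ : Type*} [Fintype κ] (F : κ → MvPolynomial (Fin (n + 1)) (MvPolynomial ι k))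
    (e : κ → ℕ) (hF : ∀ t, (F t).IsHomogeneous (e t)) (a₀ : ι → k)
    (h₀ : ∀ v : Fin (n + 1) → k, (∀ t, eval v (MvPolynomial.map (eval a₀) (F t)) = 0) → v = 0) :
    ∃ q : MvPolynomial ι k, eval a₀ q ≠ 0 ∧ ∀ a, eval a q ≠ 0 →
      ∀ v : Fin (n + 1) → k, (∀ t, eval v (MvPolynomial.map (eval a) (F t)) = 0) → v = 0 := by
  classical
  let I₀ : Ideal (MvPolynomial (Fin (n + 1)) k) := Ideal.span (Set.range fun t => MvPolynomial.map (eval a₀) (F t))
  have hrad : ∀ i, X i ∈ I₀.radical := fun i => by
    rw [← vanishingIdeal_zeroLocus_eq_radical (K := k), mem_vanishingIdeal_iff]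
    intro v hv
    have hv0 : v = 0 := h₀ v fun t => by
      simpa [aeval_eq_eval] using hv _ (Ideal.subset_span ⟨t, rfl⟩)
    simp [hv0]
  choose N₀ hN₀ using hrad
  let N : ℕ := Finset.univ.sup N₀ + Finset.univ.sup e + 1
  have hN : ∀ i, X i ^ N ∈ I₀ := fun i =>
    I₀.pow_mem_of_pow_mem (hN₀ i) (by have := Finset.le_sup (f := N₀) (Finset.mem_univ i); omega)
  have hc : ∀ i, ∃ c : κ → MvPolynomial (Fin (n + 1)) k, (∀ t, (c t).IsHomogeneous (N - e t)) ∧
      X i ^ N = ∑ t, c t * MvPolynomial.map (eval a₀) (F t) := fun i => by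
    obtain ⟨c, hc⟩ := (Submodule.mem_span_range_iff_exists_fun _).1 (hN i)
    refine ⟨fun t => homogeneousComponent (N - e t) (c t), fun t => homogeneousComponent_isHomogeneous _ _, ?_⟩
    have h1 := congrArg (homogeneousComponent N) hc
    rw [map_sum, homogeneousComponent_of_mem (isHomogeneous_X_pow i N), if_pos rfl] at h1
    rw [← h1]
    refine Finset.sum_congr rfl fun t _ => ?_
    exact homogeneousComponent_mul_of ((hF t).map _) (by have := Finset.le_sup (f := e) (Finset.mem_univ t); omega)
  choose c hc hcX using hc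
  let H : Fin (n + 1) → MvPolynomial (Fin (n + 1)) (MvPolynomial ι k) := fun i =>
    ∑ t, MvPolynomial.map C (c i t) * F t
  have hH : ∀ i, (H i).IsHomogeneous N := fun i => IsHomogeneous.sum _ _ _ fun t _ => by
    have := ((hc i t).map (C : k →+* MvPolynomial ι k)).mul (hF t)
    rwa [Nat.sub_add_cancel (by have := Finset.le_sup (f := e) (Finset.mem_univ t); omega)] at this
  have hHa : ∀ (a : ι → k) i, MvPolynomial.map (eval a) (H i) = ∑ t, c i t * MvPolynomial.map (eval a) (F t) := fun a i => by
    rw [show (H i) = _ from rfl, map_sum]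
    refine Finset.sum_congr rfl fun t _ => ?_
    rw [map_mul, MvPolynomial.map_map, show (eval a).comp C = RingHom.id k by ext; simp, MvPolynomial.map_id]
  let M : ℕ := (n + 1) * N
  let T := {β : Fin (n + 1) →₀ ℕ // β.degree = M}
  haveI : Finite T := ((Finsupp.finite_of_degree_le M).subset fun β (hβ : β.degree = M) => hβ.le).to_subtype
  haveI : Fintype T := Fintype.ofFinite _
  have hdiv : ∀ β : T, ∃ i, N ≤ β.1 i := fun β => by
    by_contra! hcon
    have h1 := β.2
    rw [Finsupp.degree_eq_sum] at h1
    have h2 : ∑ i, β.1 i < ∑ _i : Fin (n + 1), N := Finset.sum_lt_sum_of_nonempty Finset.univ_nonempty fun i _ => hcon i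
    simp only [Finset.sum_const, Finset.card_univ, Fintype.card_fin, smul_eq_mul] at h2
    omega
  choose i hi using hdiv
  let P : T → MvPolynomial (Fin (n + 1)) (MvPolynomial ι k) := fun β =>
    monomial (β.1 - Finsupp.single (i β) N) 1 * H (i β)
  have hP : ∀ β, (P β).IsHomogeneous M := fun β => by
    have hle : Finsupp.single (i β) N ≤ β.1 := Finsupp.single_le_iff.2 (hi β)
    have h1 : (β.1 - Finsupp.single (i β) N).degree + N = M := by
      conv_rhs => rw [← β.2, ← tsub_add_cancel_of_le hle]
      simp
    exact h1 ▸ (isHomogeneous_monomial (n := (β.1 - Finsupp.single (i β) N).degree) 1 rfl).mul (hH (i β))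
  let Mat : Matrix T T (MvPolynomial ι k) := fun β γ => coeff γ.1 (P β)
  refine ⟨Mat.det, ?_, fun a ha v hv => ?_⟩
  · have h1 : (eval a₀).mapMatrix Mat = 1 := by
      ext β γ
      show eval a₀ (coeff γ.1 (P β)) = _
      have hle : Finsupp.single (i β) N ≤ β.1 := Finsupp.single_le_iff.2 (hi β)
      rw [← coeff_map, map_mul, hHa, ← hcX, map_monomial, map_one, X_pow_eq_monomial, monomial_mul, one_mul,
        tsub_add_cancel_of_le hle, coeff_monomial, Matrix.one_apply]
      exact if_congr Subtype.coe_inj rfl rfl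
    rw [RingHom.map_det, h1, Matrix.det_one]
    exact one_ne_zero
  · let w : T → k := fun γ => ∏ j, v j ^ γ.1 j
    have h1 : Matrix.mulVec ((eval a).mapMatrix Mat) w = 0 := by
      funext β
      have h2 : eval v (MvPolynomial.map (eval a) (P β)) = 0 := by
        rw [map_mul, map_mul, hHa, map_sum, Finset.sum_eq_zero, mul_zero]
        intro t _
        rw [map_mul, hv t, mul_zero]
      refine Eq.trans ?_ ((eval_eq_sum_degree ((hP β).map (eval a)) v).symm.trans h2)
      simp only [Matrix.mulVec, dotProduct, RingHom.mapMatrix_apply, Matrix.map_apply, coeff_map]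
      exact Finset.sum_congr rfl fun γ _ => rfl
    have hw : w = 0 := Matrix.eq_zero_of_mulVec_eq_zero (by rwa [← RingHom.map_det]) h1
    funext j
    have h3 := congrFun hw ⟨Finsupp.single j M, by simp⟩
    simp only [w, Pi.zero_apply] at h3
    obtain ⟨l, -, hl⟩ := Finset.prod_eq_zero_iff.1 h3
    by_cases hlj : l = j
    · subst hlj
      exact eq_zero_of_pow_eq_zero hl
    · simp [Finsupp.single_eq_of_ne hlj] at hl

end Groth.Agent.LefDual
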