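import Groth.Agent.LefDual.Local
import Mathlib.Algebra.DualNumber
import Mathlib.RingTheory.RingHom.StandardSmooth
import Mathlib.RingTheory.Smooth.StandardSmoothCotangent

/-!
# Sections smooth of relative dimension one less
-/

set_option autoImplicit false

universe u

namespace Groth.Agent.LefDual

open KaehlerDifferential

variable {k : Type u} [Field k]

/-- Independent tangent vectors at a point are at most as many as generators of differentials. -/
theorem card_le_of_tangents {A : Type u} [CommRing A] [Algebra k A] {m d : ℕ} (e : Fin m → Ω[A⁄k])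
    (he : Submodule.span A (Set.range e) = ⊤) (χ : A →ₐ[k] k) (δ : Fin d → A → k)
    (hadd : ∀ t a b, δ t (a + b) = δ t a + δ t b) (hsmul : ∀ t (c : k) a, δ t (c • a) = c * δ t a)
    (hmul : ∀ t a b, δ t (a * b) = χ a * δ t b + χ b * δ t a)
    (hind : ∀ c : Fin d → k, (∀ a, ∑ t, c t * δ t a = 0) → c = 0) : d ≤ m := by
  classical
  letI : Module A k := Module.compHom k χ.toRingHom
  haveI : IsScalarTower k A k := ⟨fun c a x => by
    show χ (c • a) * x = c * (χ a * x)
    rw [map_smul, smul_eq_mul, mul_assoc]⟩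
  let Δ : Fin d → Derivation k A k := fun t => Derivation.mk'
    { toFun := δ t, map_add' := hadd t, map_smul' := fun c a => hsmul t c a }
    (fun a b => hmul t a b)
  let Λ : (Fin d → k) →ₗ[k] (Fin m → k) :=
    { toFun := fun c j => ∑ t, c t * (Δ t).liftKaehlerDifferential (e j)
      map_add' := fun c c' => funext fun j => by simp [add_mul, Finset.sum_add_distrib]
      map_smul' := fun a c => funext fun j => by simp [Finset.mul_sum, mul_assoc] }
  have hΛ : Function.Injective Λ := by
    refine (injective_iff_map_eq_zero Λ).2 fun c hc => hind c fun a => ?_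
    have hall : ∀ ω : Ω[A⁄k], ∑ t, c t * (Δ t).liftKaehlerDifferential ω = 0 := fun ω => by
      induction he.symm ▸ (Submodule.mem_top : ω ∈ ⊤) using Submodule.span_induction with
      | mem y hy => obtain ⟨j, rfl⟩ := hy; exact congrFun hc j
      | zero => simp
      | add y y' _ _ h h' => simp [mul_add, Finset.sum_add_distrib, h, h']
      | smul b y _ h =>
        have : ∀ t, (Δ t).liftKaehlerDifferential (b • y) = χ b * (Δ t).liftKaehlerDifferential y := fun t =>
          map_smul _ b y
        simp only [this, mul_left_comm _ (χ b), ← Finset.mul_sum, h, mul_zero]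
    simpa [Δ, Derivation.liftKaehlerDifferential_comp_D] using hall (D k A a)
  simpa using LinearMap.finrank_le_finrank_of_injective hΛ

variable {B : Type u} [CommRing B] [Algebra k B]

/-- The tangent vectors at a point given by a basis of differentials near it. -/
theorem exists_tangents {g : B} {d : ℕ} (b : Module.Basis (Fin d) (Localization.Away g) Ω[Localization.Away g⁄k])
    (χ : Localization.Away g →ₐ[k] k) :
    ∃ ψ : Fin d → (B →ₐ[k] DualNumber k), (∀ t a, TrivSqZeroExt.fst (ψ t a) = χ (algebraMap B _ a)) ∧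
      ∀ c : Fin d → k, (∀ a, ∑ t, c t * TrivSqZeroExt.snd (ψ t a) = 0) → c = 0 := by
  classical
  let B' := Localization.Away g
  let ψ' : Fin d → (B' →ₐ[k] DualNumber k) := fun t =>
    { toFun := fun a => TrivSqZeroExt.inl (χ a) + TrivSqZeroExt.inr (χ (b.repr (D k B' a) t))
      map_one' := by simp
      map_zero' := by simp
      map_add' := fun x y => by ext <;> simp
      map_mul' := fun x y => by
        ext
        · simp
        · simp [Derivation.leibniz]; ring
      commutes' := fun c => by ext <;> simp [TrivSqZeroExt.algebraMap_eq_inl'] <;> exact χ.commutes c }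
  refine ⟨fun t => (ψ' t).comp (IsScalarTower.toAlgHom k B B'), fun t a => by simp [ψ', B'], fun c hc => ?_⟩
  have hunit : χ (algebraMap B B' g) ≠ 0 :=
    ((IsLocalization.Away.algebraMap_isUnit (S := B') g).map χ).ne_zero
  have hB' : ∀ a : B', ∑ t, c t * χ (b.repr (D k B' a) t) = 0 := fun a => by
    obtain ⟨e, x, hx⟩ := IsLocalization.Away.surj g a
    have h1 := fun t => congrArg TrivSqZeroExt.snd (congrArg (ψ' t) hx)
    have hpow : ∀ t, TrivSqZeroExt.snd (ψ' t (algebraMap B B' g ^ e)) = TrivSqZeroExt.snd (ψ' t (algebraMap B B' (g ^ e))) := fun t => by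
      rw [map_pow (algebraMap B B')]
    have h2 : ∀ t, χ (algebraMap B B' g) ^ e * χ (b.repr (D k B' a) t) +
        χ a * TrivSqZeroExt.snd (ψ' t (algebraMap B B' (g ^ e))) = TrivSqZeroExt.snd (ψ' t (algebraMap B B' x)) := fun t => by
      rw [← h1 t, map_mul, TrivSqZeroExt.snd_mul, ← hpow]
      simp [ψ', mul_comm]
      ring
    have h3 : ∑ t, c t * (χ (algebraMap B B' g) ^ e * χ (b.repr (D k B' a) t) +
        χ a * TrivSqZeroExt.snd (ψ' t (algebraMap B B' (g ^ e)))) = 0 := by
      simp only [h2]; exact hc x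
    simp only [mul_add, Finset.sum_add_distrib, mul_left_comm (c _) (χ a), ← Finset.mul_sum] at h3
    rw [show ∑ t, c t * TrivSqZeroExt.snd (ψ' t (algebraMap B B' (g ^ e))) = 0 from hc (g ^ e), mul_zero, add_zero] at h3
    simp only [mul_left_comm (c _) (χ (algebraMap B B' g) ^ e), ← Finset.mul_sum] at h3
    exact (mul_eq_zero.1 h3).resolve_left (pow_ne_zero _ hunit)
  have hall : ∀ ω : Ω[B'⁄k], ∑ t, c t * χ (b.repr ω t) = 0 := fun ω => by
    induction (span_range_derivation k B').symm ▸ (Submodule.mem_top : ω ∈ ⊤) using Submodule.span_induction with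
    | mem y hy => obtain ⟨a, rfl⟩ := hy; exact hB' a
    | zero => simp
    | add y y' _ _ h h' => simp [mul_add, Finset.sum_add_distrib, h, h']
    | smul a y _ h => simp [mul_left_comm _ (χ a), ← Finset.mul_sum, h]
  funext t
  have := hall (b t)
  simpa [Finsupp.single_apply, apply_ite χ, Finset.sum_ite_eq'] using this

/-- Tangent vectors extend to a localisation at an element not vanishing at the point. -/
theorem card_le_of_localization {g : B} {d m : ℕ} (e : Fin m → Ω[Localization.Away g⁄k])
    (he : Submodule.span (Localization.Away g) (Set.range e) = ⊤) (χ : B →ₐ[k] k) (hg : χ g ≠ 0)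
    (ψ : Fin d → (B →ₐ[k] DualNumber k)) (hfst : ∀ t a, TrivSqZeroExt.fst (ψ t a) = χ a)
    (hind : ∀ c : Fin d → k, (∀ a, ∑ t, c t * TrivSqZeroExt.snd (ψ t a) = 0) → c = 0) : d ≤ m := by
  have hu : ∀ (t : Fin d) (y : Submonoid.powers g), IsUnit (ψ t y) := fun t ⟨_, j, hj⟩ => by
    rw [TrivSqZeroExt.isUnit_iff_isUnit_fst, hfst]
    exact isUnit_iff_ne_zero.2 (by simp [← hj, hg])
  have hu' : ∀ y : Submonoid.powers g, IsUnit (χ y) := fun ⟨_, j, hj⟩ =>
    isUnit_iff_ne_zero.2 (by simp [← hj, hg])
  let ψ' := fun t => IsLocalization.liftAlgHom (M := Submonoid.powers g) (S := Localization.Away g) (hu t)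
  let χ' := IsLocalization.liftAlgHom (M := Submonoid.powers g) (S := Localization.Away g) hu'
  have hf : ∀ t, (TrivSqZeroExt.fstHom k k k).comp (ψ' t) = χ' := fun t => by
    apply AlgHom.coe_ringHom_injective
    refine IsLocalization.ringHom_ext (Submonoid.powers g) (RingHom.ext fun a => ?_)
    simp [ψ', χ', hfst]
  have hf' : ∀ t a, TrivSqZeroExt.fst (ψ' t a) = χ' a := fun t a => DFunLike.congr_fun (hf t) a
  refine card_le_of_tangents e he χ' (fun t a => TrivSqZeroExt.snd (ψ' t a)) (fun t a b => by simp)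
    (fun t c a => by simp) (fun t a b => ?_) (fun c hc => hind c fun a => ?_)
  · rw [map_mul, TrivSqZeroExt.snd_mul, hf', hf']
    simp [mul_comm]
  · simpa [ψ'] using hc (algebraMap B _ a)

theorem relDim_le_of_bases [IsAlgClosed k] [Algebra.FiniteType k B] (P : Ideal B) [P.IsMaximal] {h g : B}
    (hh : h ∉ P) (hg : g ∉ P) {d m : ℕ}
    (b : Module.Basis (Fin d) (Localization.Away h) Ω[Localization.Away h⁄k])
    (e : Module.Basis (Fin m) (Localization.Away g) Ω[Localization.Away g⁄k]) : d ≤ m := by
  obtain ⟨χ, hχ⟩ := exists_point (k := k) P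
  have hu : ∀ y : Submonoid.powers h, IsUnit (χ y) := fun ⟨_, j, hj⟩ =>
    isUnit_iff_ne_zero.2 (by simp [← hj, show χ h ≠ 0 from fun e => hh ((hχ h).2 e)])
  obtain ⟨ψ, hψ, hind⟩ := exists_tangents b
    (IsLocalization.liftAlgHom (M := Submonoid.powers h) (S := Localization.Away h) hu)
  exact card_le_of_localization e e.span_eq χ (fun e => hg ((hχ g).2 e)) ψ
    (fun t a => by rw [hψ]; simp) hind

theorem exists_away_standardSmooth_quotient {A : Type u} [CommRing A] [Algebra k A] [Algebra.FinitePresentation k A] (a : A)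
    (q : Ideal (A ⧸ Ideal.span {a})) [q.IsPrime] (h : A) (hh : h ∉ q.comap (Ideal.Quotient.mk _))
    [Algebra.Smooth k (Localization.Away h)] {m : ℕ} {z : Fin (m + 1) → Localization.Away h}
    (b : Module.Basis (Fin (m + 1)) (Localization.Away h) Ω[Localization.Away h⁄k]) (hb : ∀ t, b t = D k _ (z t))
    (t₀ : Fin (m + 1))
    (ht₀ : b.repr (D k _ (algebraMap A (Localization.Away h) a)) t₀ ∉
      (q.comap (Ideal.Quotient.mk (Ideal.span {a}))).map (algebraMap A (Localization.Away h))) :
    ∃ f : A ⧸ Ideal.span {a}, f ∉ q ∧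
      Algebra.IsStandardSmoothOfRelativeDimension m k (Localization.Away f) := by
  classical
  let p : Ideal A := q.comap (Ideal.Quotient.mk _)
  haveI : p.IsPrime := Ideal.IsPrime.comap _
  let B := Localization.Away h
  let c := b.repr (D k B (algebraMap A B a)) t₀
  let B' := Localization.Away c
  haveI : Algebra.Smooth k B' := Algebra.Smooth.comp k B B'
  let b₁ : Module.Basis (Fin (m + 1)) B' Ω[B'⁄k] :=
    b.ofIsLocalizedModule B' (Submonoid.powers c) (map k k B B')
  have hb₁ : ∀ t, b₁ t = D k B' (algebraMap B B' (z t)) := fun t => by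
    rw [show b₁ t = map k k B B' (b t) from Module.Basis.ofIsLocalizedModule_apply .., hb]
    exact KaehlerDifferential.map_D k k B B' _
  let hc : B' := algebraMap B B' (algebraMap A B a)
  have hc₁ : D k B' hc = ∑ t, algebraMap B B' (b.repr (D k B (algebraMap A B a)) t) • b₁ t := by
    conv_lhs => rw [show D k B' hc = map k k B B' (D k B (algebraMap A B a)) by simp [hc],
      ← b.sum_repr (D k B (algebraMap A B a)), map_sum]
    refine Finset.sum_congr rfl fun t _ => ?_
    rw [map_smul, show map k k B B' (b t) = b₁ t from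
      (Module.Basis.ofIsLocalizedModule_apply ..).symm]
    exact (algebraMap_smul B' (b.repr (D k B (algebraMap A B a)) t) (b₁ t)).symm
  let z₂ : Fin (m + 1) → B' := Function.update (fun t => algebraMap B B' (z t)) t₀ hc
  let L : Ω[B'⁄k] →ₗ[B'] Ω[B'⁄k] := b₁.constr B' fun t => D k B' (z₂ t)
  have hL : Function.Surjective L := by
    rw [← LinearMap.range_eq_top, Module.Basis.constr_range, eq_top_iff, ← b₁.span_eq,
      Submodule.span_le]
    rintro _ ⟨t, rfl⟩
    set S := Submodule.span B' (Set.range fun t => D k B' (z₂ t))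
    have hne : ∀ t, t ≠ t₀ → b₁ t ∈ S := fun t ht => Submodule.subset_span
      ⟨t, by simp [z₂, Function.update_of_ne ht, hb₁]⟩
    by_cases ht : t = t₀
    · subst ht
      have h1 : D k B' hc ∈ S := Submodule.subset_span ⟨t, by simp [z₂]⟩
      rw [hc₁, Finset.sum_eq_add_sum_sdiff_singleton_of_mem (Finset.mem_univ t)] at h1
      rw [S.add_mem_iff_left (Submodule.sum_mem _ fun s hs =>
        S.smul_mem _ (hne s (by simpa using (Finset.mem_sdiff.1 hs).2)))] at h1
      exact (Submodule.smul_mem_iff_of_isUnit S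
        (IsLocalization.Away.algebraMap_isUnit (S := B') c)).1 h1
    · exact hne t ht
  haveI : Module.Finite B' Ω[B'⁄k] := Module.Finite.of_basis b₁
  let b₂ := b₁.map (LinearEquiv.ofBijective L
    (OrzechProperty.bijective_of_surjective_endomorphism L hL))
  have hb₂ : ∀ t, b₂ t = D k B' (z₂ t) := fun t => by
    rw [Module.Basis.map_apply]
    exact b₁.constr_basis B' _ t
  let b₃ := b₂.reindex (Equiv.swap 0 t₀)
  have hE := BertiniAff.isStandardSmooth_quotient_of_coord (z := z₂ ∘ Equiv.swap 0 t₀) b₃ (fun t => by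
    simp [b₃, Module.Basis.reindex_apply, hb₂])
  let f₁ := h * (IsLocalization.Away.sec h c).1
  haveI hloc : IsLocalization.Away f₁ B' := IsLocalization.Away.mul_of_associated (S := B) _ _ c
    (IsLocalization.Away.associated_sec_fst h c)
  have hsec : (IsLocalization.Away.sec h c).1 ∉ p := by
    intro hm
    refine ht₀ ((Ideal.mem_iff_of_associated
      (IsLocalization.Away.associated_sec_fst h c)).1 ?_)
    exact Ideal.mem_map_of_mem _ hm
  have hmap : (Ideal.span {a}).map (algebraMap A B') =
      Ideal.span {(z₂ ∘ Equiv.swap 0 t₀) 0} := by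
    rw [Ideal.map_span, Set.image_singleton]
    simp [z₂, hc, IsScalarTower.algebraMap_apply A B B']
  haveI := Algebra.IsStandardSmoothOfRelativeDimension.of_algEquiv m
    (R := k) (S := B' ⧸ Ideal.span {(z₂ ∘ Equiv.swap 0 t₀) 0})
    (T := B' ⧸ (Ideal.span {a}).map (algebraMap A B'))
    (Ideal.quotientEquivAlgOfEq k hmap.symm)
  haveI : IsLocalization.Away (Ideal.Quotient.mk (Ideal.span {a}) f₁)
      (B' ⧸ (Ideal.span {a}).map (algebraMap A B')) := by
    show IsLocalization (Submonoid.powers _) _
    have h1 : IsLocalization (Algebra.algebraMapSubmonoid (A ⧸ Ideal.span {a})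
        (Submonoid.powers f₁)) (B' ⧸ (Ideal.span {a}).map (algebraMap A B')) := inferInstance
    rwa [Algebra.algebraMapSubmonoid, Submonoid.map_powers] at h1
  haveI : IsScalarTower k (A ⧸ Ideal.span {a})
      (B' ⧸ (Ideal.span {a}).map (algebraMap A B')) :=
    IsScalarTower.of_algebraMap_eq (R := k) (S := A ⧸ Ideal.span {a})
      (A := B' ⧸ (Ideal.span {a}).map (algebraMap A B')) fun c => by
        show Ideal.Quotient.mk _ (algebraMap k B' c) = Ideal.Quotient.mk _ _
        exact congrArg _ (IsScalarTower.algebraMap_apply k A B' c)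
  let eloc := (IsLocalization.algEquiv (Submonoid.powers (Ideal.Quotient.mk (Ideal.span {a}) f₁))
    (B' ⧸ (Ideal.span {a}).map (algebraMap A B'))
    (Localization.Away (Ideal.Quotient.mk (Ideal.span {a}) f₁))).restrictScalars k
  haveI hfin := Algebra.IsStandardSmoothOfRelativeDimension.of_algEquiv m
    (R := k) (S := B' ⧸ (Ideal.span {a}).map (algebraMap A B'))
    (T := Localization.Away (Ideal.Quotient.mk (Ideal.span {a}) f₁)) eloc
  exact ⟨Ideal.Quotient.mk (Ideal.span {a}) f₁, ‹p.IsPrime›.mul_notMem hh hsec, hfin⟩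

theorem exists_basis_away (g : B) {n : ℕ} [Nontrivial (Localization.Away g)]
    (hg : RingHom.IsStandardSmoothOfRelativeDimension n ((algebraMap B (Localization.Away g)).comp (algebraMap k B))) :
    Nonempty (Module.Basis (Fin n) (Localization.Away g) Ω[Localization.Away g⁄k]) := by
  rw [← IsScalarTower.algebraMap_eq, RingHom.isStandardSmoothOfRelativeDimension_algebraMap] at hg
  haveI : Algebra.IsStandardSmooth k (Localization.Away g) :=
    Algebra.IsStandardSmoothOfRelativeDimension.isStandardSmooth n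
  have hr := (Algebra.IsStandardSmoothOfRelativeDimension.iff_of_isStandardSmooth n).1 hg
  exact ⟨Module.finBasisOfFinrankEq _ _ (Module.finrank_eq_of_rank_eq hr)⟩

theorem exists_notMem_basis {n : ℕ}
    (hloc : RingHom.Locally (RingHom.IsStandardSmoothOfRelativeDimension n) (algebraMap k B))
    (P : Ideal B) [P.IsPrime] :
    ∃ g ∉ P, Nonempty (Module.Basis (Fin n) (Localization.Away g) Ω[Localization.Away g⁄k]) := by
  obtain ⟨s, hs, hsP⟩ := hloc
  obtain ⟨g, hgs, hgP⟩ : ∃ g ∈ s, g ∉ P := by
    by_contra! hcon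
    exact ‹P.IsPrime›.ne_top (top_le_iff.1 (hs ▸ Ideal.span_le.2 hcon))
  haveI : Nontrivial (Localization.Away g) := by
    refine not_subsingleton_iff_nontrivial.1 fun hsub => ?_
    obtain ⟨j, hj⟩ := (IsLocalization.subsingleton_iff (S := Localization.Away g) (M := Submonoid.powers g)).1 hsub
    exact hgP (‹P.IsPrime›.mem_of_pow_mem j (by rw [show g ^ j = 0 from hj]; exact P.zero_mem))
  exact ⟨g, hgP, exists_basis_away g (hsP g hgs)⟩

variable [IsAlgClosed k]

/-- Without singular points the section is smooth of relative dimension one less. -/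
theorem locally_quotient_of_good [Algebra.Smooth k B] {m : ℕ}
    (hloc : RingHom.Locally (RingHom.IsStandardSmoothOfRelativeDimension (m + 1)) (algebraMap k B)) (G : B)
    (hgood : ∀ P : Ideal B, P.IsMaximal → G ∉ P ^ 2) :
    RingHom.Locally (RingHom.IsStandardSmoothOfRelativeDimension m) (algebraMap k (B ⧸ Ideal.span {G})) := by
  classical
  let C := B ⧸ Ideal.span {G}
  let S : Set C := {f | Algebra.IsStandardSmoothOfRelativeDimension m k (Localization.Away f)}
  refine ⟨S, ?_, fun f hf => ?_⟩
  · by_contra hne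
    obtain ⟨q, hq, hSq⟩ := Ideal.exists_le_maximal _ hne
    haveI := hq
    let P : Ideal B := q.comap (Ideal.Quotient.mk _)
    haveI hP : P.IsMaximal := Ideal.comap_isMaximal_of_surjective _ Ideal.Quotient.mk_surjective
    have hGP : G ∈ P := by
      show Ideal.Quotient.mk _ G ∈ q
      rw [Ideal.Quotient.eq_zero_iff_mem.2 (Ideal.mem_span_singleton_self G)]
      exact q.zero_mem
    obtain ⟨N, y, hy⟩ := Algebra.FiniteType.iff_quotient_mvPolynomial''.mp (inferInstance : Algebra.FiniteType k B)
    have hy' : Function.Surjective (MvPolynomial.aeval (fun i => y (MvPolynomial.X i)) : MvPolynomial (Fin N) k →ₐ[k] B) := by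
      rwa [show (MvPolynomial.aeval (fun i => y (MvPolynomial.X i)) : MvPolynomial (Fin N) k →ₐ[k] B) = y from
        MvPolynomial.algHom_ext fun i => by simp]
    obtain ⟨h, hhP, hsm, d, s, b, -, hb⟩ := BertiniAff.exists_piece _ hy' P (f := 1)
      (fun h1 => hP.ne_top ((Ideal.eq_top_iff_one _).2 h1)) (Algebra.Smooth.comp k B (Localization.Away (1 : B)))
    obtain ⟨g, hgP, ⟨e⟩⟩ := exists_notMem_basis hloc P
    obtain rfl : d = m + 1 := le_antisymm (relDim_le_of_bases P hhP hgP b e) (relDim_le_of_bases P hgP hhP e b)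
    obtain ⟨t₀, ht₀⟩ : ∃ t₀, b.repr (D k _ (algebraMap B (Localization.Away h) G)) t₀ ∉
        P.map (algebraMap B (Localization.Away h)) := by
      by_contra! hcon
      let B' := Localization.Away h
      have hdisj : Disjoint (Submonoid.powers h : Set B) (P : Set B) :=
        (Ideal.disjoint_powers_iff_notMem_of_isPrime _).2 hhP
      haveI hmax : (P.map (algebraMap B B')).IsMaximal := by
        haveI := IsLocalization.isPrime_of_isPrime_disjoint (Submonoid.powers h) B' P inferInstance hdisj
        haveI : IsJacobsonRing B := isJacobsonRing_of_finiteType (A := k)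
        refine (IsLocalization.isMaximal_iff_isMaximal_disjoint (R := B) B' h _).2 ?_
        rw [IsLocalization.comap_map_of_isPrime_disjoint (Submonoid.powers h) B' inferInstance hdisj]
        exact ⟨hP, hhP⟩
      haveI : Algebra.FiniteType k B' := inferInstance
      have h2 : algebraMap B B' G ∈ (P.map (algebraMap B B')) ^ 2 := by
        refine (mem_sq_iff (k := k) _ _).2 ⟨Ideal.mem_map_of_mem _ hGP, ?_⟩
        rw [← b.sum_repr (D k B' (algebraMap B B' G))]
        exact Submodule.sum_mem _ fun t _ => Submodule.smul_mem_smul (hcon t) trivial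
      rw [← Ideal.map_pow] at h2
      obtain ⟨r, hr, hrG⟩ := (IsLocalization.algebraMap_mem_map_algebraMap_iff (Submonoid.powers h) B' _ _).1 h2
      obtain ⟨j, rfl⟩ := hr
      have hsup : Ideal.span {h ^ j} ⊔ P ^ 2 = ⊤ := by
        rw [← Ideal.span_singleton_pow]
        refine Ideal.pow_sup_pow_eq_top ?_
        exact hP.out.2 _ (by simpa [lt_iff_le_not_ge] using hhP)
      obtain ⟨u, hu, w, hw, huw⟩ := Submodule.mem_sup.1 (hsup.symm ▸ Submodule.mem_top : (1 : B) ∈ _)
      obtain ⟨v, rfl⟩ := Ideal.mem_span_singleton'.1 hu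
      refine hgood P hP ?_
      rw [show G = v * (h ^ j * G) + G * w by linear_combination (-G) * huw]
      exact add_mem (Ideal.mul_mem_left _ _ hrG) (Ideal.mul_mem_left _ _ hw)
    haveI := hsm
    obtain ⟨f, hfq, hf⟩ := exists_away_standardSmooth_quotient G q h hhP b hb t₀ ht₀
    exact hfq (hSq (Ideal.subset_span hf))
  · show RingHom.IsStandardSmoothOfRelativeDimension m _
    rw [← IsScalarTower.algebraMap_eq, RingHom.isStandardSmoothOfRelativeDimension_algebraMap]
    exact hf

/-- A singular point prevents the section from being smooth of relative dimension one less. -/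
theorem not_locally_quotient_of_bad [Algebra.FiniteType k B] {m : ℕ}
    (hloc : RingHom.Locally (RingHom.IsStandardSmoothOfRelativeDimension (m + 1)) (algebraMap k B)) (G : B)
    (P : Ideal B) [hP : P.IsMaximal] (hG : G ∈ P ^ 2) :
    ¬ RingHom.Locally (RingHom.IsStandardSmoothOfRelativeDimension m) (algebraMap k (B ⧸ Ideal.span {G})) := by
  classical
  intro hC
  obtain ⟨χ, hχ⟩ := exists_point (k := k) P
  obtain ⟨g, hgP, ⟨b⟩⟩ := exists_notMem_basis hloc P
  have hu : ∀ y : Submonoid.powers g, IsUnit (χ y) := fun ⟨_, j, hj⟩ =>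
    isUnit_iff_ne_zero.2 (by simp [← hj, show χ g ≠ 0 from fun e => hgP ((hχ g).2 e)])
  obtain ⟨ψ, hψ, hind⟩ := exists_tangents b
    (IsLocalization.liftAlgHom (M := Submonoid.powers g) (S := Localization.Away g) hu)
  have hψ' : ∀ t a, TrivSqZeroExt.fst (ψ t a) = χ a := fun t a => by rw [hψ]; simp
  have hψG : ∀ t, ∀ a ∈ P ^ 2, ψ t a = 0 := fun t a ha => by
    rw [pow_two] at ha
    induction ha using Submodule.mul_induction_on' with
    | mem_mul_mem x hx y hy =>
      rw [map_mul]
      ext
      · simp [hψ', (hχ x).1 hx]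
      · simp [hψ', (hχ x).1 hx, (hχ y).1 hy]
    | add x _ y _ hx hy => rw [map_add, hx, hy, add_zero]
  let C := B ⧸ Ideal.span {G}
  have hker : ∀ t, ∀ a ∈ Ideal.span {G}, ψ t a = 0 := fun t a ha => by
    obtain ⟨c, rfl⟩ := Ideal.mem_span_singleton'.1 ha
    rw [map_mul, hψG t G hG, mul_zero]
  have hχG : ∀ a ∈ Ideal.span {G}, χ a = 0 := fun a ha =>
    (hχ a).1 ((Ideal.span_singleton_le_iff_mem _).2 (Ideal.pow_le_self two_ne_zero hG) ha)
  let χC : C →ₐ[k] k := Ideal.Quotient.liftₐ _ χ hχG
  let ψC : Fin (m + 1) → (C →ₐ[k] DualNumber k) := fun t => Ideal.Quotient.liftₐ _ (ψ t) (hker t)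
  haveI hPC : (RingHom.ker χC).IsPrime := RingHom.ker_isPrime _
  obtain ⟨g', hg'P, ⟨e⟩⟩ := exists_notMem_basis hC (RingHom.ker χC)
  have := card_le_of_localization e e.span_eq χC (fun e' => hg'P e') ψC (fun t a => by
      obtain ⟨a, rfl⟩ := Ideal.Quotient.mk_surjective a
      exact hψ' t a)
    (fun c hc => hind c fun a => hc (Ideal.Quotient.mk _ a))
  omega

end Groth.Agent.LefDual
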