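import Groth.Agent.LefDual.HypIdeal
import Groth.Agent.LefDual.Smooth
import Groth.Agent.LefDual.Elim
import Groth.Agent.ForSys.Planes
import Groth.Agent.BertiniZero.Main
import Groth.Agent.ProjUniv.Chart
import Groth.Agent.UnitProd.SmoothReduced

/-!
# The pieces of a smooth embedded variety and the singular hypersurface sections
-/

set_option autoImplicit false

universe u

open CategoryTheory CategoryTheory.Limits AlgebraicGeometry TopologicalSpace Opposite HomogeneousLocalization

namespace Groth.Agent.LefDual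

variable {k : Type u} [Field k] {r : ℕ} {X : Scheme.{u}} (ι : X ⟶ CohB1.ProjSpace r k)

local notation "𝒬" => CohB1.polyGrading r k

/-- The functions on a piece as an algebra over the base field. -/
noncomputable scoped instance pieceAlg (j : Fin (r + 1)) : Algebra k Γ(X, BertiniHyp.piece ι j) :=
  ((BertiniHyp.pieceMap ι j).comp (ProjPoint.chartBase j)).toAlgebra

/-- The coordinate functions on a piece. -/
noncomputable def pcoord (j m : Fin (r + 1)) : Γ(X, BertiniHyp.piece ι j) :=
  BertiniHyp.pieceMap ι j (ProjPoint.coord j m)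

theorem pcoord_self (j : Fin (r + 1)) : pcoord ι j j = 1 := by
  rw [pcoord, ProjPoint.coord_self, map_one]

theorem fromSpec_piece [IsAffineHom ι] (j : Fin (r + 1)) :
    (pieceAff ι j).2.fromSpec ≫ ι ≫ CohB1.ProjSpace.toSpec r k =
      Spec.map (CommRingCat.ofHom (algebraMap k Γ(X, BertiniHyp.piece ι j))) := by
  letI : X.Over (Spec (CommRingCat.of k)) := ⟨ι ≫ CohB1.ProjSpace.toSpec r k⟩
  refine (BertiniZero.fromSpec_comp_over k (Y := X) (pieceAff ι j).2).trans ?_
  refine congrArg (fun φ : k →+* _ => Spec.map (CommRingCat.ofHom φ)) ?_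
  refine Eq.trans ?_ (congrArg (fun φ : _ →+* _ => φ.comp (ProjPoint.chartBase j))
    (show ProjUniv.chartMap ι (i := j) (W := BertiniHyp.piece ι j) le_rfl = BertiniHyp.pieceMap ι j from RingHom.ext fun z =>
      congrArg (fun φ : Γ(Proj (CohB1.polyGrading r k), ProjUniv.D r k j) ⟶ Γ(X, BertiniHyp.piece ι j) =>
        φ.hom ((Proj.awayToSection (CohB1.polyGrading r k) (MvPolynomial.X j)).hom z))
        (Scheme.Hom.appLE_eq_app (Y := Proj (CohB1.polyGrading r k)) ι)))
  exact (ProjUniv.chartMap_chartBase ι (q := ι ≫ CohB1.ProjSpace.toSpec r k) rfl le_rfl).symm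

theorem aeval_pcoord (j : Fin (r + 1)) (p : MvPolynomial (Fin (r + 1)) k) :
    MvPolynomial.aeval (R := k) (pcoord ι j) p =
      BertiniHyp.pieceMap ι j (MvPolynomial.eval₂Hom (ProjPoint.chartBase j) (ProjPoint.coord j) p) := by
  rw [MvPolynomial.map_eval₂Hom]; rfl

theorem aeval_pcoord_surjective [IsClosedImmersion ι] (j : Fin (r + 1)) :
    Function.Surjective (MvPolynomial.aeval (R := k) (pcoord ι j)) := fun y => by
  obtain ⟨z, rfl⟩ := BertiniHyp.pieceMap_surjective ι j y
  obtain ⟨p, rfl⟩ := BertiniHyp.eval_coord_surjective j z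
  exact ⟨p, aeval_pcoord ι j p⟩

theorem finiteType_piece [IsClosedImmersion ι] (j : Fin (r + 1)) : Algebra.FiniteType k Γ(X, BertiniHyp.piece ι j) :=
  Algebra.FiniteType.of_surjective (MvPolynomial.aeval (R := k) (pcoord ι j)) (aeval_pcoord_surjective ι j)

theorem pform_eq_aeval {d : ℕ} (j : Fin (r + 1)) (G : LefPen.Form r k d) :
    pform ι j G = MvPolynomial.aeval (R := k) (pcoord ι j) G.1 := by
  rw [aeval_pcoord]
  show BertiniHyp.pieceMap ι j _ = _
  refine congrArg (BertiniHyp.pieceMap ι j) ?_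
  have hu : IsUnit (MvPolynomial.eval₂Hom (ProjPoint.chartBase (R := k) j) (ProjPoint.coord j) (MvPolynomial.X j)) := by
    rw [MvPolynomial.eval₂Hom_X', ProjPoint.coord_self]; exact isUnit_one
  have hm : G.1 ∈ CohB1.polyGrading r k (d • 1) := by simpa using G.2
  have h1 := ProjPoint.evalAway_mk (ProjPoint.chartBase j) (ProjPoint.coord j) hu (ProjPoint.X_mem j) d _ hm
  simp only [MvPolynomial.eval₂Hom_X', ProjPoint.coord_self, one_pow, mul_one] at h1
  rw [← h1, ProjPoint.evalAway_coord, RingHom.id_apply]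

/-- The images of a basis of the forms. -/
noncomputable def pbasis (d : ℕ) (j : Fin (r + 1)) (s : ForSys.Mon r d) : Γ(X, BertiniHyp.piece ι j) :=
  pform ι j ((ForSys.formEquiv k r d).symm (Pi.single s 1))

theorem member_pbasis {d : ℕ} (j : Fin (r + 1)) (G : LefPen.Form r k d) :
    member (pbasis ι d j) (ForSys.formEquiv k r d G) = pform ι j G := by
  classical
  simp only [member, pbasis, pform_eq_aeval]
  conv_rhs => rw [← (ForSys.formEquiv k r d).symm_apply_apply G, ← Finset.univ_sum_single (ForSys.formEquiv k r d G)]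
  rw [map_sum, Submodule.coe_sum, map_sum]
  refine Finset.sum_congr rfl fun s _ => ?_
  conv_rhs => rw [show (Pi.single s (ForSys.formEquiv k r d G s) : ForSys.Mon r d → k) =
    ForSys.formEquiv k r d G s • Pi.single s 1 by rw [← Pi.single_smul', smul_eq_mul, mul_one]]
  rw [map_smul, Submodule.coe_smul, map_smul, Algebra.smul_def]

theorem jet_surjective [IsClosedImmersion ι] {d : ℕ} (hd : 1 ≤ d) (j : Fin (r + 1)) :
    Function.Surjective (jet (k := k) (pbasis ι d j)) := by
  let B := Γ(X, BertiniHyp.piece ι j)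
  have hrange : ∀ G : LefPen.Form r k d, (pform ι j G, KaehlerDifferential.D k B (pform ι j G)) ∈
      LinearMap.range (jet (k := k) (pbasis ι d j)) := fun G =>
    ⟨fun s => algebraMap k B (ForSys.formEquiv k r d G s), by rw [jet_const, member_pbasis]⟩
  have hX : ∀ m : Fin (r + 1), (pcoord ι j m, KaehlerDifferential.D k B (pcoord ι j m)) ∈
      LinearMap.range (jet (k := k) (pbasis ι d j)) := fun m => by
    have := hrange ⟨MvPolynomial.X j ^ (d - 1) * MvPolynomial.X m, by
      have h := (MvPolynomial.isHomogeneous_X_pow (R := k) j (d - 1)).mul (MvPolynomial.isHomogeneous_X k m)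
      rwa [Nat.sub_add_cancel hd] at h⟩
    rw [pform_eq_aeval] at this
    simpa [pcoord_self] using this
  have hone : ((1 : B), (0 : Ω[B⁄k])) ∈ LinearMap.range (jet (k := k) (pbasis ι d j)) := by
    simpa [pcoord_self] using hX j
  have hD : ∀ y : B, ((0 : B), KaehlerDifferential.D k B y) ∈ LinearMap.range (jet (k := k) (pbasis ι d j)) := fun y => by
    obtain ⟨p, rfl⟩ := aeval_pcoord_surjective ι j y
    induction p using MvPolynomial.induction_on with
    | C c =>
      rw [MvPolynomial.aeval_C, Derivation.map_algebraMap]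
      exact Submodule.zero_mem _
    | add p q hp hq =>
      have := Submodule.add_mem _ hp hq
      simpa using this
    | mul_X p m hp =>
      have h1 : ((0 : B), KaehlerDifferential.D k B (pcoord ι j m)) ∈ LinearMap.range (jet (k := k) (pbasis ι d j)) := by
        have := Submodule.sub_mem _ (hX m) (Submodule.smul_mem _ (pcoord ι j m) hone)
        simpa using this
      have := Submodule.add_mem _ (Submodule.smul_mem _ (pcoord ι j m) hp)
        (Submodule.smul_mem _ (MvPolynomial.aeval (R := k) (pcoord ι j) p) h1)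
      simpa [Derivation.leibniz, add_comm] using this
  rw [← LinearMap.range_eq_top, eq_top_iff]
  rintro ⟨x, ω⟩ -
  have hω : ((0 : B), ω) ∈ LinearMap.range (jet (k := k) (pbasis ι d j)) := by
    induction (KaehlerDifferential.span_range_derivation k B).symm ▸ (Submodule.mem_top : ω ∈ ⊤) using
        Submodule.span_induction with
    | mem y hy => obtain ⟨y, rfl⟩ := hy; exact hD y
    | zero => exact Submodule.zero_mem _
    | add y y' _ _ h h' => simpa using Submodule.add_mem _ h h'
    | smul a y _ h => simpa using Submodule.smul_mem _ a h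
  simpa using Submodule.add_mem _ (Submodule.smul_mem _ x hone) hω

variable [IsClosedImmersion ι]

theorem piece_locally {n : ℕ} [SmoothOfRelativeDimension n (ι ≫ CohB1.ProjSpace.toSpec r k)] (j : Fin (r + 1)) :
    RingHom.Locally (RingHom.IsStandardSmoothOfRelativeDimension n) (algebraMap k Γ(X, BertiniHyp.piece ι j)) := by
  have h : SmoothOfRelativeDimension n ((pieceAff ι j).2.fromSpec ≫ ι ≫ CohB1.ProjSpace.toSpec r k) :=
    IsZariskiLocalAtSource.comp (P := @SmoothOfRelativeDimension n) ‹_› _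
  rw [fromSpec_piece] at h
  exact (HasRingHomProperty.Spec_iff (P := @SmoothOfRelativeDimension n)).1 h

theorem piece_smooth [Smooth (ι ≫ CohB1.ProjSpace.toSpec r k)] (j : Fin (r + 1)) :
    Algebra.Smooth k Γ(X, BertiniHyp.piece ι j) := by
  have h : Smooth ((pieceAff ι j).2.fromSpec ≫ ι ≫ CohB1.ProjSpace.toSpec r k) := inferInstance
  rw [fromSpec_piece] at h
  exact RingHom.smooth_algebraMap.1 ((HasRingHomProperty.Spec_iff (P := @Smooth)).1 h)

theorem mem_piece_of_isUnit (i j : Fin (r + 1)) (x : X) (hi : x ∈ BertiniHyp.piece ι i)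
    (hu : IsUnit (X.presheaf.germ _ x hi (pcoord ι i j))) : x ∈ BertiniHyp.piece ι j := by
  have e := BertiniHyp.germ_pieceMap ι i (⟨MvPolynomial.X j, ProjPoint.X_mem j⟩ : ↥(CohB1.polyGrading r k 1)) x hi
  have h1 : pcoord ι i j = BertiniHyp.pieceMap ι i (Away.mk 𝒬 (ProjPoint.X_mem i) 1
      (MvPolynomial.X j : MvPolynomial (Fin (r + 1)) k) (by simpa using ProjPoint.X_mem j)) := rfl
  rw [h1] at hu
  erw [e] at hu
  have h2 := ((isUnit_map_iff (ι.stalkMap x).hom _).1 hu).map (Proj.stalkIso' 𝒬 (ι.base x))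
  erw [RingEquiv.apply_symm_apply] at h2
  rw [← HomogeneousLocalization.isUnit_iff_isUnit_val, HomogeneousLocalization.val_mk,
    Localization.mk_eq_mk', IsLocalization.AtPrime.isUnit_mk'_iff] at h2
  exact h2

/-- Orders of vanishing of forms at a point agree on the pieces. -/
theorem transfer (i j : Fin (r + 1)) (P : Ideal Γ(X, BertiniHyp.piece ι i)) [hP : P.IsMaximal]
    [JacobsonSpace X] (hij : pcoord ι i j ∉ P) :
    ∃ Q : Ideal Γ(X, BertiniHyp.piece ι j), Q.IsMaximal ∧ ∀ (e : ℕ) (G : LefPen.Form r k e),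
      (pform ι i G ∈ P → pform ι j G ∈ Q) ∧ (pform ι i G ∈ P ^ 2 → pform ι j G ∈ Q ^ 2) := by
  have hU := fun m => (pieceAff ι m).2
  let y : PrimeSpectrum Γ(X, BertiniHyp.piece ι i) := ⟨P, hP.isPrime⟩
  let x : X := (hU i).fromSpec y
  have hxi : x ∈ BertiniHyp.piece ι i := (hU i).range_fromSpec.le ⟨y, rfl⟩
  letI := TopCat.Presheaf.algebra_section_stalk X.presheaf (⟨x, hxi⟩ : BertiniHyp.piece ι i)
  haveI : IsLocalization.AtPrime (X.presheaf.stalk x) y.asIdeal := (hU i).isLocalization_stalk' y hxi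
  have hxj : x ∈ BertiniHyp.piece ι j := mem_piece_of_isUnit ι i j x hxi
    ((IsLocalization.AtPrime.isUnit_to_map_iff (X.presheaf.stalk x) y.asIdeal _).2 hij)
  let w : (BertiniHyp.piece ι j : X.Opens) := ⟨x, hxj⟩
  let Q : Ideal Γ(X, BertiniHyp.piece ι j) := ((hU j).primeIdealOf w).asIdeal
  have hQ : Q.IsMaximal := by
    have hxc : x ∈ closedPoints X := by
      have h1 : ((hU i).fromSpec : Spec Γ(X, BertiniHyp.piece ι i) → X) ⁻¹' closedPoints X =
          closedPoints (Spec Γ(X, BertiniHyp.piece ι i)) :=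
        (Scheme.Hom.isOpenEmbedding (hU i).fromSpec).preimage_closedPoints
      exact h1.symm.le (show y ∈ closedPoints (Spec Γ(X, BertiniHyp.piece ι i)) from
        (PrimeSpectrum.isClosed_singleton_iff_isMaximal y).2 hP)
    have h2 : ((hU j).fromSpec : Spec Γ(X, BertiniHyp.piece ι j) → X) ⁻¹' closedPoints X =
        closedPoints (Spec Γ(X, BertiniHyp.piece ι j)) :=
      (Scheme.Hom.isOpenEmbedding (hU j).fromSpec).preimage_closedPoints
    exact (PrimeSpectrum.isClosed_singleton_iff_isMaximal _).1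
      (h2.le (show (hU j).fromSpec ((hU j).primeIdealOf w) ∈ closedPoints X by rwa [(hU j).fromSpec_primeIdealOf w]))
  refine ⟨Q, hQ, fun e G => ?_⟩
  have key : ∀ s : ℕ, pform ι i G ∈ P ^ s → pform ι j G ∈ Q ^ s := fun s hG => by
    have h1 : X.presheaf.germ _ x hxi (pform ι i G) ∈ IsLocalRing.maximalIdeal (X.presheaf.stalk x) ^ s := by
      rw [← IsLocalization.AtPrime.map_eq_maximalIdeal y.asIdeal (X.presheaf.stalk x), ← Ideal.map_pow]
      exact Ideal.mem_map_of_mem (algebraMap Γ(X, BertiniHyp.piece ι i) (X.presheaf.stalk x)) hG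
    letI := TopCat.Presheaf.algebra_section_stalk X.presheaf w
    haveI : IsLocalization.AtPrime (X.presheaf.stalk x) Q := (hU j).isLocalization_stalk w
    have h2 : algebraMap Γ(X, BertiniHyp.piece ι j) (X.presheaf.stalk x) (pform ι j G) ∈
        IsLocalRing.maximalIdeal (X.presheaf.stalk x) ^ s :=
      (pform_germ ι G i j x hxi hxj).symm ▸ Ideal.mul_mem_right _ _ h1
    rw [← IsLocalization.AtPrime.map_eq_maximalIdeal Q (X.presheaf.stalk x), ← Ideal.map_pow] at h2
    obtain ⟨c, hc, hcx⟩ :=
      (IsLocalization.algebraMap_mem_map_algebraMap_iff Q.primeCompl (X.presheaf.stalk x) _ _).1 h2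
    have hsup : Ideal.span {c} ⊔ Q ^ s = ⊤ := by
      have h3 : Ideal.span {c} ⊔ Q = ⊤ := hQ.out.2 _ (lt_of_le_of_ne le_sup_right fun e =>
        hc (show c ∈ Q from e.symm.le (Ideal.mem_sup_left (Ideal.mem_span_singleton_self c))))
      exact Ideal.sup_pow_eq_top h3
    obtain ⟨v', hv', w', hw', hvw⟩ := Submodule.mem_sup.1 (hsup.symm ▸ Submodule.mem_top : (1 : Γ(X, BertiniHyp.piece ι j)) ∈ _)
    obtain ⟨v, rfl⟩ := Ideal.mem_span_singleton'.1 hv'
    rw [show pform ι j G = v * (c * pform ι j G) + pform ι j G * w' by linear_combination (-(pform ι j G)) * hvw]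
    exact add_mem (Ideal.mul_mem_left _ _ hcx) (Ideal.mul_mem_left _ _ hw')
  exact ⟨fun h => by simpa using key 1 (by simpa using h), key 2⟩

end Groth.Agent.LefDual
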