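import Groth.Agent.LefDual.Main

/-!
# The dual variety: statements in terms of transversality
-/

set_option autoImplicit false

universe u

open CategoryTheory CategoryTheory.Limits AlgebraicGeometry

namespace Groth.Agent.LefDual

variable {k : Type u} [Field k] [IsAlgClosed k] {r n : ℕ} {X : Scheme.{u}} (ι : X ⟶ CohB1.ProjSpace r k)
  [IsClosedImmersion ι] [IrreducibleSpace X] [SmoothOfRelativeDimension n (ι ≫ CohB1.ProjSpace.toSpec r k)]

include ι n in
theorem isIntegral_of_embedded : AlgebraicGeometry.IsIntegral X := by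
  haveI : Smooth (ι ≫ CohB1.ProjSpace.toSpec r k) := SmoothOfRelativeDimension.smooth n _
  haveI := UnitProd.isReduced_left_of_smooth (ι ≫ CohB1.ProjSpace.toSpec r k)
  exact isIntegral_of_irreducibleSpace_of_isReduced X

theorem isZOpen_transversal (hn : 1 ≤ n) (d : ℕ) :
    LefPen.IsZOpen k {H : LefPen.Form r k d |
      LefPen.Transversal k n 1 (LefPen.secToSpec ι ({H} : Set (LefPen.Form r k d)))} := by
  intro H hH
  haveI : Smooth (ι ≫ CohB1.ProjSpace.toSpec r k) := SmoothOfRelativeDimension.smooth n _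
  obtain ⟨q, hq, hq'⟩ := exists_poly_good ι H ((transversal_iff ι hn H).1 hH)
  refine ⟨(ForSys.polyEquiv (ForSys.formEquiv k r d) q).1, (ForSys.polyEquiv (ForSys.formEquiv k r d) q).2,
    by rwa [ForSys.polyEquiv_apply], fun G hG => (transversal_iff ι hn G).2 (hq' G ?_)⟩
  rwa [ForSys.polyEquiv_apply] at hG

theorem isGeneric_transversal (hn : 1 ≤ n) (d : ℕ) (hd : 1 ≤ d) :
    LefPen.IsGeneric k {H : LefPen.Form r k d |
      LefPen.Transversal k n 1 (LefPen.secToSpec ι ({H} : Set (LefPen.Form r k d)))} := by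
  haveI : Smooth (ι ≫ CohB1.ProjSpace.toSpec r k) := SmoothOfRelativeDimension.smooth n _
  haveI := isIntegral_of_embedded (n := n) ι
  obtain ⟨H, hH⟩ := exists_good ι hd
  obtain ⟨f, hf, hfH, hf'⟩ := isZOpen_transversal (n := n) ι hn d H ((transversal_iff ι hn H).2 hH)
  exact ⟨f, hf, ⟨H, hfH⟩, hf'⟩

theorem irreducible_nonTransversal (hn : 1 ≤ n) (d : ℕ) (hd : 1 ≤ d) (f g : LefPen.Form r k d → k)
    (hf : LefPen.IsPolyFun k f) (hg : LefPen.IsPolyFun k g)
    (hfg : ∀ H : LefPen.Form r k d, ¬ LefPen.Transversal k n 1 (LefPen.secToSpec ι ({H} : Set (LefPen.Form r k d))) →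
      f H * g H = 0) :
    (∀ H : LefPen.Form r k d, ¬ LefPen.Transversal k n 1 (LefPen.secToSpec ι ({H} : Set (LefPen.Form r k d))) → f H = 0) ∨
    (∀ H : LefPen.Form r k d, ¬ LefPen.Transversal k n 1 (LefPen.secToSpec ι ({H} : Set (LefPen.Form r k d))) → g H = 0) := by
  haveI : Smooth (ι ≫ CohB1.ProjSpace.toSpec r k) := SmoothOfRelativeDimension.smooth n _
  haveI := isIntegral_of_embedded (n := n) ι
  let e := ForSys.formEquiv k r d
  have key : ∀ (h : LefPen.Form r k d → k) (hh : LefPen.IsPolyFun k h) (H : LefPen.Form r k d),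
      MvPolynomial.eval (e H) ((ForSys.polyEquiv e).symm ⟨h, hh⟩) = h H := fun h hh H => by
    rw [← ForSys.polyEquiv_apply, AlgEquiv.apply_symm_apply]
  have hiff : ∀ H : LefPen.Form r k d,
      ¬ LefPen.Transversal k n 1 (LefPen.secToSpec ι ({H} : Set (LefPen.Form r k d))) ↔ Bad ι H := fun H => by
    rw [transversal_iff ι hn H, not_not]
  simp only [hiff] at hfg ⊢
  refine (bad_irreducible ι hd ((ForSys.polyEquiv e).symm ⟨f, hf⟩) ((ForSys.polyEquiv e).symm ⟨g, hg⟩) fun G hG => ?_).imp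
    (fun h G hG => (key f hf G).symm.trans (h G hG)) (fun h G hG => (key g hg G).symm.trans (h G hG))
  rw [map_mul, key, key]
  exact hfg G hG

end Groth.Agent.LefDual
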