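import Groth.Prelude.Def_LefPen
import Groth.Agent.BertiniHyp.Main
import Groth.Agent.IdealComap.Basic
import Groth.Agent.QCohLib.Sections
import Mathlib.AlgebraicGeometry.ProjectiveSpectrum.Proper

/-!
# The ideal of a hypersurface on the standard charts
-/

set_option autoImplicit false

universe u

open CategoryTheory CategoryTheory.Limits AlgebraicGeometry TopologicalSpace Opposite HomogeneousLocalization

namespace Groth.Agent.LefDual

variable {k : Type u} [Field k] {r : ℕ}

local notation "𝒬" => CohB1.polyGrading r k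

theorem res_self {X : Scheme.{u}} {U : X.Opens} (h : U ≤ U) (x : Γ(X, U)) : X.presheaf.map (homOfLE h).op x = x := by
  rw [show (homOfLE h).op = 𝟙 (op U) from rfl, CategoryTheory.Functor.map_id]
  rfl

/-- `T_m / T_i` on a chart. -/
noncomputable def coordFun (i m : Fin (r + 1)) : Γ(CohB1.ProjSpace r k, LefPen.chart r k i) :=
  (Proj.awayToSection 𝒬 (MvPolynomial.X i)).hom (ProjPoint.coord i m)

theorem dehom_res {d : ℕ} (G : LefPen.Form r k d) (i j : Fin (r + 1)) {W : (CohB1.ProjSpace r k).Opens}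
    (hi : W ≤ LefPen.chart r k i) (hj : W ≤ LefPen.chart r k j) :
    ((CohB1.ProjSpace r k).presheaf.map (homOfLE hj).op).hom (LefPen.dehom G j) =
      ((CohB1.ProjSpace r k).presheaf.map (homOfLE hi).op).hom (LefPen.dehom G i) *
        ((CohB1.ProjSpace r k).presheaf.map (homOfLE hj).op).hom (coordFun j i) ^ d := by
  apply Subtype.ext
  funext x
  apply HomogeneousLocalization.val_injective
  refine Eq.trans ?_ (HomogeneousLocalization.val_mul _ _).symm
  have hpow : ∀ (a : Γ(CohB1.ProjSpace r k, W)) (e : ℕ), (((a ^ e).1 x)).val = ((a.1 x)).val ^ e := fun a e => by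
    induction e with
    | zero =>
      rw [pow_zero, pow_zero]
      exact HomogeneousLocalization.val_one
    | succ e ih => rw [pow_succ, pow_succ, ← ih]; exact HomogeneousLocalization.val_mul _ _
  rw [hpow]
  show ((LefPen.dehom G j).1 ⟨x.1, hj x.2⟩).val =
    ((LefPen.dehom G i).1 ⟨x.1, hi x.2⟩).val * ((coordFun j i).1 ⟨x.1, hj x.2⟩).val ^ d
  rw [LefPen.dehom, LefPen.dehom, coordFun, ProjPoint.coord]
  erw [ProjectiveSpectrum.Proj.awayToSection_apply, ProjectiveSpectrum.Proj.awayToSection_apply,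
    ProjectiveSpectrum.Proj.awayToSection_apply]
  simp only [Away.val_mk, Localization.mk_eq_mk', IsLocalization.map_mk']
  simp only [← Localization.mk_eq_mk']
  erw [Localization.mk_pow, Localization.mk_mul]
  rw [Localization.mk_eq_mk_iff, Localization.r_iff_exists]
  refine ⟨1, ?_⟩
  simp
  ring

/-- The family defining a hypersurface is already an ideal sheaf. -/
theorem hypFamily_map {d : ℕ} (G : LefPen.Form r k d) (U : (CohB1.ProjSpace r k).affineOpens)
    (f : Γ(CohB1.ProjSpace r k, U.1)) :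
    (LefPen.hypFamily G U).map ((CohB1.ProjSpace r k).presheaf.map
        (homOfLE <| (CohB1.ProjSpace r k).basicOpen_le f).op).hom =
      LefPen.hypFamily G ((CohB1.ProjSpace r k).affineBasicOpen f) := by
  classical
  let P : Scheme.{u} := CohB1.ProjSpace r k
  haveI : P.IsSeparated := inferInstanceAs (Scheme.IsSeparated (Proj 𝒬))
  let r₁ := (P.presheaf.map (homOfLE (P.basicOpen_le f)).op).hom
  letI := r₁.toAlgebra
  haveI : IsLocalization.Away f Γ(P, P.basicOpen f) := U.2.isLocalization_basicOpen f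
  let ρ : ∀ i, Γ(P, U.1) →+* Γ(P, U.1 ⊓ LefPen.chart r k i) := fun i =>
    (P.presheaf.map (homOfLE (inf_le_left : U.1 ⊓ LefPen.chart r k i ≤ U.1)).op).hom
  let gU : ∀ i, Γ(P, U.1 ⊓ LefPen.chart r k i) := fun i =>
    (P.presheaf.map (homOfLE (inf_le_right : U.1 ⊓ LefPen.chart r k i ≤ LefPen.chart r k i)).op).hom (LefPen.dehom G i)
  have hle : ∀ i, P.basicOpen f ⊓ LefPen.chart r k i ≤ U.1 ⊓ LefPen.chart r k i := fun i =>
    inf_le_inf_right _ (P.basicOpen_le f)
  let σ : ∀ i, Γ(P, U.1 ⊓ LefPen.chart r k i) →+* Γ(P, P.basicOpen f ⊓ LefPen.chart r k i) := fun i =>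
    (P.presheaf.map (homOfLE (hle i)).op).hom
  have hcomm : ∀ i (a : Γ(P, U.1)),
      σ i (ρ i a) = (P.presheaf.map (homOfLE (inf_le_left : P.basicOpen f ⊓ LefPen.chart r k i ≤ P.basicOpen f)).op).hom
        (r₁ a) := fun i a =>
    (QCohLib.ring_map_map (hle i) _ a).trans (QCohLib.ring_map_map (inf_le_left) _ a).symm
  have hg : ∀ i, σ i (gU i) =
      (P.presheaf.map (homOfLE (inf_le_right : P.basicOpen f ⊓ LefPen.chart r k i ≤ LefPen.chart r k i)).op).hom
        (LefPen.dehom G i) := fun i => QCohLib.ring_map_map (hle i) _ _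
  refine le_antisymm (Ideal.map_le_iff_le_comap.2 fun a ha => ?_) fun b hbmem => ?_
  · refine Ideal.mem_iInf.2 fun i => ?_
    rw [Ideal.mem_comap]
    have h1 := Ideal.mem_map_of_mem (σ i) (show ρ i a ∈ Ideal.span {gU i} from Ideal.mem_iInf.1 ha i)
    rw [Ideal.map_span, Set.image_singleton] at h1
    rw [show σ i ((ρ i) a) = _ from hcomm i a, hg i] at h1
    exact h1
  · obtain ⟨e, a, ha⟩ := IsLocalization.Away.surj f b
    have hN : ∀ i, ∃ N, ρ i (f ^ N * a) ∈ Ideal.span {gU i} := fun i => by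
      letI := (σ i).toAlgebra
      have haff : IsAffineOpen (U.1 ⊓ LefPen.chart r k i) :=
        U.2.inf (Proj.isAffineOpen_basicOpen 𝒬 (MvPolynomial.X i) (ProjPoint.X_mem i) one_pos)
      have hb : P.basicOpen (ρ i f) = P.basicOpen f ⊓ LefPen.chart r k i := by
        show P.basicOpen ((P.presheaf.map _).hom f) = _
        erw [P.basicOpen_res]
        exact le_antisymm (fun y hy => ⟨hy.2, hy.1.2⟩) (fun y hy => ⟨⟨P.basicOpen_le f hy.1, hy.2⟩, hy.1⟩)
      haveI : IsLocalization.Away (ρ i f) Γ(P, P.basicOpen f ⊓ LefPen.chart r k i) :=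
        haff.isLocalization_of_eq_basicOpen (ρ i f) (homOfLE (hle i)) hb.symm
      have h1 : algebraMap _ Γ(P, P.basicOpen f ⊓ LefPen.chart r k i) (ρ i a) ∈
          (Ideal.span {gU i}).map (algebraMap _ Γ(P, P.basicOpen f ⊓ LefPen.chart r k i)) := by
        rw [Ideal.map_span, Set.image_singleton]
        show σ i (ρ i a) ∈ Ideal.span {σ i (gU i)}
        rw [hcomm, hg, show r₁ a = b * r₁ f ^ e from ha.symm, map_mul]
        exact Ideal.mul_mem_right _ _ (Ideal.mem_comap.1 (Ideal.mem_iInf.1 hbmem i))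
      obtain ⟨_, ⟨N, rfl⟩, hN⟩ := (IsLocalization.algebraMap_mem_map_algebraMap_iff
        (Submonoid.powers (ρ i f)) Γ(P, P.basicOpen f ⊓ LefPen.chart r k i) _ _).1 h1
      exact ⟨N, by rw [map_mul, map_pow]; exact hN⟩
    choose N hN using hN
    have hmem : f ^ (Finset.univ.sup N) * a ∈ LefPen.hypFamily G U := Ideal.mem_iInf.2 fun i => by
      obtain ⟨c, hc⟩ := Nat.exists_eq_add_of_le (Finset.le_sup (f := N) (Finset.mem_univ i))
      rw [Ideal.mem_comap, hc, pow_add, mul_comm (f ^ N i), mul_assoc, map_mul]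
      exact Ideal.mul_mem_left _ _ (hN i)
    have h2 := Ideal.mem_map_of_mem r₁ hmem
    rw [map_mul, map_pow, show r₁ a = b * r₁ f ^ e from ha.symm, ← mul_assoc, mul_comm _ b, mul_assoc, ← pow_add] at h2
    exact (Ideal.mul_unit_mem_iff_mem _ ((P.toRingedSpace.isUnit_res_basicOpen f).pow _)).1 h2

theorem hypIdeal_ideal {d : ℕ} (G : LefPen.Form r k d) (U : (CohB1.ProjSpace r k).affineOpens) :
    (LefPen.hypIdeal G).ideal U = LefPen.hypFamily G U := by
  refine le_antisymm (Scheme.IdealSheafData.ideal_ofIdeals_le _ U) ?_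
  let J : (CohB1.ProjSpace r k).IdealSheafData :=
    { ideal := LefPen.hypFamily G, map_ideal_basicOpen := hypFamily_map G }
  exact (Scheme.IdealSheafData.le_ofIdeals_iff (I := J)).2 (fun V => le_rfl) U

/-- The standard chart as an affine open. -/
noncomputable def chartAff (r : ℕ) (k : Type u) [Field k] (j : Fin (r + 1)) : (CohB1.ProjSpace r k).affineOpens :=
  ⟨LefPen.chart r k j, Proj.isAffineOpen_basicOpen (CohB1.polyGrading r k) (MvPolynomial.X j) (ProjPoint.X_mem j) one_pos⟩

theorem hypIdeal_chart {d : ℕ} (G : LefPen.Form r k d) (j : Fin (r + 1)) :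
    (LefPen.hypIdeal G).ideal (chartAff r k j) = Ideal.span {LefPen.dehom G j} := by
  let P : Scheme.{u} := CohB1.ProjSpace r k
  rw [hypIdeal_ideal]
  refine le_antisymm (fun a ha => ?_) ((Ideal.span_singleton_le_iff_mem _).2 (Ideal.mem_iInf.2 fun i => ?_))
  · have h1 := Ideal.mem_map_of_mem (P.presheaf.map (homOfLE (le_inf le_rfl le_rfl :
        LefPen.chart r k j ≤ (chartAff r k j).1 ⊓ LefPen.chart r k j)).op).hom (show (P.presheaf.map (homOfLE (inf_le_left : (chartAff r k j).1 ⊓ LefPen.chart r k j ≤ (chartAff r k j).1)).op).hom a ∈ Ideal.span {(P.presheaf.map (homOfLE (inf_le_right : (chartAff r k j).1 ⊓ LefPen.chart r k j ≤ LefPen.chart r k j)).op).hom (LefPen.dehom G j)} from Ideal.mem_iInf.1 ha j)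
    rw [Ideal.map_span, Set.image_singleton] at h1
    erw [QCohLib.ring_map_map, QCohLib.ring_map_map, res_self, res_self] at h1
    exact h1
  · show _ ∈ Ideal.span _
    rw [Ideal.mem_span_singleton']
    refine ⟨(P.presheaf.map (homOfLE (inf_le_left : (chartAff r k j).1 ⊓ LefPen.chart r k i ≤ LefPen.chart r k j)).op).hom
      (coordFun j i) ^ d, ?_⟩
    exact ((dehom_res G i j (W := (chartAff r k j).1 ⊓ LefPen.chart r k i) inf_le_right inf_le_left).trans
      (mul_comm _ _)).symm

variable {X : Scheme.{u}} (ι : X ⟶ CohB1.ProjSpace r k)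

/-- The restriction of a form to a piece of `X`. -/
noncomputable def pform {d : ℕ} (j : Fin (r + 1)) : LefPen.Form r k d → Γ(X, BertiniHyp.piece ι j) := fun G =>
  (ι.app (LefPen.chart r k j)).hom (LefPen.dehom G j)

/-- A piece as an affine open. -/
noncomputable def pieceAff [IsAffineHom ι] (j : Fin (r + 1)) : X.affineOpens :=
  ⟨BertiniHyp.piece ι j, (show IsAffineOpen (LefPen.chart r k j) from (chartAff r k j).2).preimage ι⟩

theorem secIdeal_piece [IsAffineHom ι] {d : ℕ} (G : LefPen.Form r k d) (j : Fin (r + 1)) :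
    (LefPen.secIdeal ι ({G} : Set (LefPen.Form r k d))).ideal (pieceAff ι j) = Ideal.span {pform ι j G} := by
  rw [LefPen.secIdeal, iSup_singleton, IdealComap.ideal_comap _ ι (pieceAff ι j) (chartAff r k j) le_rfl,
    hypIdeal_chart]
  refine (Ideal.map_span _ _).trans (congrArg Ideal.span (Set.image_singleton.trans ?_))
  refine congrArg (fun t => ({t} : Set _)) ?_
  exact congrArg (fun φ => φ.hom (LefPen.dehom G j)) (Scheme.Hom.appLE_eq_app ι)

/-- The images of the forms on two pieces differ by a unit on the overlap. -/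
theorem pform_germ {d : ℕ} (G : LefPen.Form r k d) (i j : Fin (r + 1)) (x : X) (hi : x ∈ BertiniHyp.piece ι i)
    (hj : x ∈ BertiniHyp.piece ι j) :
    X.presheaf.germ _ x hj (pform ι j G) = X.presheaf.germ _ x hi (pform ι i G) *
      X.presheaf.germ _ x hj ((ι.app (LefPen.chart r k j)).hom (coordFun j i)) ^ d := by
  simp only [pform]
  erw [← Scheme.Hom.germ_stalkMap_apply ι _ x hj, ← Scheme.Hom.germ_stalkMap_apply ι _ x hi,
    ← Scheme.Hom.germ_stalkMap_apply ι _ x hj]
  rw [← map_pow, ← map_mul]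
  refine congrArg (ι.stalkMap x).hom ?_
  let W := LefPen.chart r k i ⊓ LefPen.chart r k j
  have h := congrArg ((CohB1.ProjSpace r k).presheaf.germ W (ι.base x) ⟨hi, hj⟩)
    (dehom_res G i j (W := W) inf_le_left inf_le_right)
  rw [map_mul, map_pow] at h
  erw [TopCat.Presheaf.germ_res_apply, TopCat.Presheaf.germ_res_apply, TopCat.Presheaf.germ_res_apply] at h
  exact h

end Groth.Agent.LefDual
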