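import Groth.Agent.BertiniZero.Smooth
import Mathlib.RingTheory.Jacobson.Ring
import Mathlib.RingTheory.Finiteness.Projective

/-!
# Singular members of a linear system with surjective jets on a smooth affine scheme
-/

set_option autoImplicit false

universe u

namespace Groth.Agent.LefDual

open KaehlerDifferential MvPolynomial

variable {k : Type u} [Field k] {B : Type u} [CommRing B] [Algebra k B] {ι : Type*} [Fintype ι]

/-- The jets of the members of a linear system. -/
noncomputable def jet (g : ι → B) : (ι → B) →ₗ[B] B × Ω[B⁄k] :=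
  Fintype.linearCombination B fun s => (g s, D k B (g s))

/-- The member with parameter `a`. -/
noncomputable def member (g : ι → B) (a : ι → k) : B := ∑ s, algebraMap k B (a s) * g s

theorem jet_const (g : ι → B) (a : ι → k) :
    jet (k := k) g (fun s => algebraMap k B (a s)) = (member g a, D k B (member g a)) := by
  rw [jet, Fintype.linearCombination_apply, member, map_sum]
  refine Prod.ext ?_ ?_
  · simp [Prod.fst_sum, Algebra.smul_def]
  · simp [Prod.snd_sum, Derivation.leibniz, Derivation.map_algebraMap]

theorem exists_point [IsAlgClosed k] [Algebra.FiniteType k B] (P : Ideal B) [P.IsMaximal] :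
    ∃ χ : B →ₐ[k] k, ∀ b, b ∈ P ↔ χ b = 0 := by
  letI := Ideal.Quotient.field P
  haveI : Module.Finite k (B ⧸ P) := finite_of_finite_type_of_isJacobsonRing k (B ⧸ P)
  let e : k ≃ₐ[k] B ⧸ P := AlgEquiv.ofBijective (Algebra.ofId k _) IsAlgClosed.algebraMap_bijective_of_isIntegral
  exact ⟨e.symm.toAlgHom.comp (Ideal.Quotient.mkₐ k P), fun b =>
    (Ideal.Quotient.eq_zero_iff_mem.symm).trans (EmbeddingLike.map_eq_zero_iff (f := e.symm)).symm⟩

theorem mem_sq_iff [IsAlgClosed k] [Algebra.FiniteType k B] (P : Ideal B) [P.IsMaximal] (G : B) :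
    G ∈ P ^ 2 ↔ G ∈ P ∧ D k B G ∈ P • (⊤ : Submodule B Ω[B⁄k]) := by
  constructor
  · intro h
    refine ⟨Ideal.pow_le_self two_ne_zero h, ?_⟩
    rw [pow_two] at h
    induction h using Submodule.mul_induction_on' with
    | mem_mul_mem a ha b hb =>
      rw [Derivation.leibniz]
      exact Submodule.add_mem _ (Submodule.smul_mem_smul ha trivial) (Submodule.smul_mem_smul hb trivial)
    | add x _ y _ hx hy => rw [map_add]; exact Submodule.add_mem _ hx hy
  · rintro ⟨hG, hD⟩
    obtain ⟨χ, hχ⟩ := exists_point (k := k) P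
    let q := Ideal.Quotient.mk (P ^ 2)
    have hsub : ∀ b, b - algebraMap k B (χ b) ∈ P := fun b => by rw [hχ]; simp
    let δ : Derivation k B (B ⧸ P ^ 2) := Derivation.mk'
      { toFun := fun b => q (b - algebraMap k B (χ b))
        map_add' := fun a b => by simp only [map_add, map_sub]; ring
        map_smul' := fun c b => by
          simp only [Algebra.smul_def, map_mul, AlgHom.commutes, RingHom.id_apply, map_sub,
            Algebra.algebraMap_self, RingHom.id_apply]
          rw [IsScalarTower.algebraMap_apply k B (B ⧸ P ^ 2), Ideal.Quotient.algebraMap_eq]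
          ring }
      (fun a b => by
        show q (a * b - algebraMap k B (χ (a * b))) = a • q _ + b • q _
        rw [Algebra.smul_def, Algebra.smul_def, Ideal.Quotient.algebraMap_eq, ← map_mul, ← map_mul, ← map_add, eq_comm,
          Ideal.Quotient.eq]
        have h2 : (a - algebraMap k B (χ a)) * (b - algebraMap k B (χ b)) ∈ P ^ 2 := by
          rw [pow_two]; exact Ideal.mul_mem_mul (hsub a) (hsub b)
        convert h2 using 1
        simp only [map_mul, LinearMap.coe_mk, AddHom.coe_mk]
        ring)
    have hr : ∀ ω : Ω[B⁄k], δ.liftKaehlerDifferential ω ∈ Submodule.map (P ^ 2).mkQ P := fun ω => by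
      induction (span_range_derivation k B).symm ▸ (Submodule.mem_top : ω ∈ ⊤) using Submodule.span_induction with
      | mem y hy =>
        obtain ⟨b, rfl⟩ := hy
        exact ⟨b - algebraMap k B (χ b), hsub b, (Derivation.liftKaehlerDifferential_comp_D δ b).symm⟩
      | zero => rw [map_zero]; exact Submodule.zero_mem _
      | add y y' _ _ h h' => rw [map_add]; exact Submodule.add_mem _ h h'
      | smul c y _ h => rw [map_smul]; exact Submodule.smul_mem _ c h
    have h0 : δ.liftKaehlerDifferential (D k B G) = 0 := by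
      refine Submodule.smul_induction_on hD (fun p hp ω _ => ?_) fun x y hx hy => by rw [map_add, hx, hy, add_zero]
      obtain ⟨z, hz, hzω⟩ := hr ω
      rw [map_smul, ← hzω, ← map_smul, Submodule.mkQ_apply, Submodule.Quotient.mk_eq_zero, smul_eq_mul, pow_two]
      exact Ideal.mul_mem_mul hp hz
    rw [Derivation.liftKaehlerDifferential_comp_D] at h0
    have h1 : q (G - algebraMap k B (χ G)) = 0 := h0
    rwa [(hχ G).1 hG, map_zero, sub_zero, Ideal.Quotient.eq_zero_iff_mem] at h1

theorem mem_smul_top_prod {M : Type*} [AddCommGroup M] [Module B M] (P : Ideal B) (x : B) (y : M) :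
    (x, y) ∈ P • (⊤ : Submodule B (B × M)) ↔ x ∈ P ∧ y ∈ P • (⊤ : Submodule B M) := by
  constructor
  · intro h
    refine ⟨?_, ?_⟩
    · have h1 := Submodule.mem_map_of_mem (f := LinearMap.fst B B M) h
      rw [Submodule.map_smul''] at h1
      have h2 := Submodule.smul_mono le_rfl le_top h1
      simpa using h2
    · have h1 := Submodule.mem_map_of_mem (f := LinearMap.snd B B M) h
      rw [Submodule.map_smul''] at h1
      exact Submodule.smul_mono le_rfl le_top h1
  · rintro ⟨hx, hy⟩
    rw [show (x, y) = x • ((1 : B), (0 : M)) + LinearMap.inr B B M y by simp]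
    refine Submodule.add_mem _ (Submodule.smul_mem_smul hx trivial) ?_
    have h1 := Submodule.mem_map_of_mem (f := LinearMap.inr B B M) hy
    rw [Submodule.map_smul''] at h1
    exact Submodule.smul_mono le_rfl le_top h1

theorem mem_smul_top_pi {κ : Type*} [Fintype κ] (P : Ideal B) (v : κ → B) :
    v ∈ P • (⊤ : Submodule B (κ → B)) ↔ ∀ t, v t ∈ P := by
  classical
  refine ⟨fun h t => ?_, fun h => ?_⟩
  · have h1 := Submodule.mem_map_of_mem (f := LinearMap.proj (R := B) (φ := fun _ : κ => B) t) h
    rw [Submodule.map_smul''] at h1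
    simpa using Submodule.smul_mono le_rfl le_top h1
  · rw [pi_eq_sum_univ v]
    exact Submodule.sum_mem _ fun t _ => Submodule.smul_mem_smul (h t) trivial

theorem map_mem_smul_top {M N : Type*} [AddCommGroup M] [Module B M] [AddCommGroup N] [Module B N] (P : Ideal B)
    (f : M →ₗ[B] N) {x : M} (hx : x ∈ P • (⊤ : Submodule B M)) : f x ∈ P • (⊤ : Submodule B N) := by
  have h1 := Submodule.mem_map_of_mem (f := f) hx
  rw [Submodule.map_smul''] at h1
  exact Submodule.smul_mono le_rfl le_top h1

variable [IsAlgClosed k] [Algebra.Smooth k B]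

theorem mem_sq_iff_jet (g : ι → B) (a : ι → k) (P : Ideal B) [P.IsMaximal] :
    member g a ∈ P ^ 2 ↔ jet (k := k) g (fun s => algebraMap k B (a s)) ∈ P • (⊤ : Submodule B (B × Ω[B⁄k])) := by
  rw [jet_const, mem_smul_top_prod, mem_sq_iff (k := k)]

/-- Equations for the singular members. -/
theorem exists_equations (g : ι → B) :
    ∃ (M : ℕ) (E : Fin M → ι → B), ∀ (a : ι → k) (P : Ideal B), P.IsMaximal →
      (member g a ∈ P ^ 2 ↔ ∀ t, ∑ s, algebraMap k B (a s) * E t s ∈ P) := by
  classical
  obtain ⟨M, ρ, σ, -, -, hρσ⟩ := Module.Finite.exists_comp_eq_id_of_projective B (B × Ω[B⁄k])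
  refine ⟨M, fun t s => σ (g s, D k B (g s)) t, fun a P hP => ?_⟩
  have hv : σ (jet (k := k) g fun s => algebraMap k B (a s)) =
      fun t => ∑ s, algebraMap k B (a s) * σ (g s, D k B (g s)) t := by
    funext t
    rw [jet, Fintype.linearCombination_apply, map_sum, Finset.sum_apply]
    simp only [map_smul, Pi.smul_apply, smul_eq_mul]
  rw [mem_sq_iff_jet]
  constructor
  · intro h t
    have h1 := (mem_smul_top_pi P _).1 (map_mem_smul_top P σ h) t
    rwa [hv] at h1
  · intro h
    have h1 := map_mem_smul_top P ρ ((mem_smul_top_pi P (σ (jet (k := k) g fun s => algebraMap k B (a s)))).2 fun t => by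
      rw [hv]; exact h t)
    rwa [show ρ (σ (jet (k := k) g fun s => algebraMap k B (a s))) = _ from LinearMap.congr_fun hρσ _] at h1

/-- The singular members are parametrised by a bundle, so products vanishing on them factor. -/
theorem exists_param [IsDomain B] (g : ι → B) (hjet : Function.Surjective (jet (k := k) g)) :
    ∃ Ψ : MvPolynomial ι k →+* MvPolynomial ι B, ∀ f : MvPolynomial ι k,
      (Ψ f = 0 → ∀ (a : ι → k) (P : Ideal B), P.IsMaximal → member g a ∈ P ^ 2 → eval a f = 0) ∧
      (∀ c : B, c ≠ 0 → (∀ (a : ι → k) (P : Ideal B), P.IsMaximal → c ∉ P → member g a ∈ P ^ 2 → eval a f = 0) →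
        Ψ f = 0) := by
  classical
  let J := jet (k := k) g
  obtain ⟨σ, hσ⟩ := Module.projective_lifting_property J LinearMap.id hjet
  let π : (ι → B) →ₗ[B] (ι → B) := LinearMap.id - σ.comp J
  have hJπ : ∀ v, J (π v) = 0 := fun v => by
    have := LinearMap.congr_fun hσ (J v)
    simp only [LinearMap.comp_apply, LinearMap.id_apply] at this
    simp [π, this]
  let Ψ : MvPolynomial ι k →ₐ[k] MvPolynomial ι B :=
    aeval fun s => ∑ u, C (π (Pi.single u 1) s) * X u
  have hlin : ∀ (v : ι → B) s, π v s = ∑ u, v u * π (Pi.single u 1) s := fun v s => by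
    conv_lhs => rw [show v = ∑ u, v u • (Pi.single u (1 : B) : ι → B) by
      rw [← Finset.univ_sum_single v]; exact Finset.sum_congr rfl fun u _ => by simp [← Pi.single_smul]]
    simp [map_sum, Finset.sum_apply]
  have heval : ∀ (χ : B →ₐ[k] k) (w : ι → k) f,
      eval w (MvPolynomial.map χ.toRingHom (Ψ f)) = eval (fun s => χ (π (fun u => algebraMap k B (w u)) s)) f := by
    intro χ w f
    induction f using MvPolynomial.induction_on with
    | C c => simp [Ψ]
    | add p q hp hq => rw [map_add Ψ, map_add (MvPolynomial.map χ.toRingHom), map_add, map_add, hp, hq]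
    | mul_X p i hp =>
      simp only [map_mul, hp, eval_X]
      congr 1
      simp [Ψ, hlin (fun u => algebraMap k B (w u)) i, map_sum, mul_comm]
  refine ⟨Ψ.toRingHom, fun f => ⟨fun hf a P hP hbad => ?_, fun c hc hvan => ?_⟩⟩
  · obtain ⟨χ, hχ⟩ := exists_point (k := k) P
    have h1 := heval χ a f
    rw [show Ψ f = 0 from hf, map_zero, map_zero] at h1
    rw [h1]
    congr 1
    congr 1
    funext s
    have h2 := (mem_smul_top_pi P _).1 (map_mem_smul_top P σ ((mem_sq_iff_jet g a P).1 hbad)) s
    rw [hχ] at h2
    simp [π, J, h2]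
  · have hcoef : ∀ d, c * coeff d (Ψ f) = 0 := fun d => by
      haveI : IsJacobsonRing B := isJacobsonRing_of_finiteType (A := k)
      have h0 : c * coeff d (Ψ f) ∈ (⊥ : Ideal B).jacobson := Ideal.mem_sInf.2 fun {P} hP => by
        by_cases hcP : c ∈ P
        · exact Ideal.mul_mem_right _ _ hcP
        refine Ideal.mul_mem_left _ _ ?_
        haveI : P.IsMaximal := hP.2
        obtain ⟨χ, hχ⟩ := exists_point (k := k) P
        rw [hχ]
        have hz : MvPolynomial.map χ.toRingHom (Ψ f) = 0 := MvPolynomial.funext fun w => by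
          rw [heval, map_zero]
          let v := π fun u => algebraMap k B (w u)
          refine hvan _ P hP.2 hcP ((mem_sq_iff_jet g _ P).2 ?_)
          have h2 : (fun s => algebraMap k B (χ (v s))) - v ∈ P • (⊤ : Submodule B (ι → B)) :=
            (mem_smul_top_pi P _).2 fun s => by rw [hχ]; simp
          have h3 := map_mem_smul_top P J h2
          rwa [map_sub, hJπ, sub_zero] at h3
        have := congrArg (coeff d) hz
        rwa [coeff_map, coeff_zero] at this
      rwa [(‹IsJacobsonRing B›).out' _ (Ideal.isPrime_bot (α := B)).isRadical,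
        Ideal.mem_bot] at h0
    exact MvPolynomial.ext _ _ fun d => (mul_eq_zero.1 (hcoef d)).resolve_left hc

end Groth.Agent.LefDual
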