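import Groth.Agent.LefDual.Basic
import Groth.Agent.DepthLib.RegularQuotient

/-!
# Openness, non-emptiness and irreducibility for the dual variety
-/

set_option autoImplicit false

universe u

open CategoryTheory CategoryTheory.Limits AlgebraicGeometry TopologicalSpace Opposite HomogeneousLocalization

namespace Groth.Agent.LefDual

open scoped Classical

variable {k : Type u} [Field k] [IsAlgClosed k] {r : ℕ} {X : Scheme.{u}} (ι : X ⟶ CohB1.ProjSpace r k)

/-- Some point of `X` is a singular point of the section by the form. -/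
def Bad {d : ℕ} (G : LefPen.Form r k d) : Prop :=
  ∃ (j : Fin (r + 1)) (P : Ideal Γ(X, BertiniHyp.piece ι j)), P.IsMaximal ∧ pform ι j G ∈ P ^ 2

theorem jacobsonSpace_of_immersion [IsClosedImmersion ι] [Smooth (ι ≫ CohB1.ProjSpace.toSpec r k)] :
    JacobsonSpace X :=
  LocallyOfFiniteType.jacobsonSpace (ι ≫ CohB1.ProjSpace.toSpec r k)

theorem iSup_piece : ⨆ j, BertiniHyp.piece ι j = ⊤ := by
  unfold BertiniHyp.piece
  rw [← Scheme.Hom.preimage_iSup]
  erw [ProjPoint.iSup_basicOpen_X]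
  rfl

theorem transversal_iff [IsClosedImmersion ι] {n : ℕ} (hn : 1 ≤ n)
    [SmoothOfRelativeDimension n (ι ≫ CohB1.ProjSpace.toSpec r k)] {d : ℕ} (G : LefPen.Form r k d) :
    LefPen.Transversal k n 1 (LefPen.secToSpec ι ({G} : Set (LefPen.Form r k d))) ↔ ¬ Bad ι G := by
  haveI : Smooth (ι ≫ CohB1.ProjSpace.toSpec r k) := SmoothOfRelativeDimension.smooth n _
  obtain ⟨m, rfl⟩ : ∃ m, n = m + 1 := ⟨n - 1, by omega⟩
  have hT : LefPen.Transversal k (m + 1) 1 (LefPen.secToSpec ι ({G} : Set (LefPen.Form r k d))) ↔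
      SmoothOfRelativeDimension m (LefPen.secToSpec ι ({G} : Set (LefPen.Form r k d))) := by
    simp [LefPen.Transversal]
  rw [hT]
  let I := LefPen.secIdeal ι ({G} : Set (LefPen.Form r k d))
  let J : ∀ j, Ideal Γ(X, BertiniHyp.piece ι j) := fun j => I.ideal (pieceAff ι j)
  have hJ : ∀ j, J j = Ideal.span {pform ι j G} := fun j => secIdeal_piece ι G j
  have hspec : ∀ j, I.subschemeCover.f (pieceAff ι j) ≫ LefPen.secToSpec ι ({G} : Set (LefPen.Form r k d)) =
      Spec.map (CommRingCat.ofHom (algebraMap k (Γ(X, BertiniHyp.piece ι j) ⧸ J j))) := fun j => by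
    rw [← Category.assoc, show I.subschemeCover.f (pieceAff ι j) ≫ LefPen.secι ι {G} =
      Spec.map (CommRingCat.ofHom (Ideal.Quotient.mk (I.ideal (pieceAff ι j)))) ≫ (pieceAff ι j).2.fromSpec from
        (Scheme.IdealSheafData.subschemeCover_map_subschemeι I _).trans (I.glueDataObjι_ι _)]
    refine (Category.assoc _ _ _).trans ?_
    rw [fromSpec_piece]
    exact (Spec.map_comp _ _).symm
  constructor
  · rintro hsm ⟨j, P, hP, hbad⟩
    haveI := finiteType_piece ι j
    haveI := hsm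
    have h1 : SmoothOfRelativeDimension m (I.subschemeCover.f (pieceAff ι j) ≫
        LefPen.secToSpec ι ({G} : Set (LefPen.Form r k d))) :=
      IsZariskiLocalAtSource.comp (P := @SmoothOfRelativeDimension m) hsm _
    rw [hspec] at h1
    have h2 := (HasRingHomProperty.Spec_iff (P := @SmoothOfRelativeDimension m)).1 h1
    rw [hJ] at h2
    haveI := hP
    exact not_locally_quotient_of_bad (piece_locally ι (n := m + 1) j) (pform ι j G) P hbad h2
  · intro hgood
    refine IsZariskiLocalAtSource.of_iSup_eq_top (P := @SmoothOfRelativeDimension m)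
      (fun j => (I.subschemeCover.f (pieceAff ι j)).opensRange) ?_ fun j => ?_
    · have h1 : ⨆ j, (pieceAff ι j).1 = ⊤ := iSup_piece ι
      simp only [Scheme.IdealSheafData.opensRange_subschemeCover_map, ← Scheme.Hom.preimage_iSup, h1, Scheme.Hom.preimage_top]
    · rw [← MorphismProperty.cancel_left_of_respectsIso (@SmoothOfRelativeDimension m) (I.subschemeCover.f (pieceAff ι j)).isoOpensRange.hom,
        Scheme.Hom.isoOpensRange_hom_ι_assoc, hspec]
      refine (HasRingHomProperty.Spec_iff (P := @SmoothOfRelativeDimension m)).2 ?_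
      rw [hJ]
      haveI := piece_smooth ι j
      exact locally_quotient_of_good (piece_locally ι (n := m + 1) j) _ fun P hP hmem => hgood ⟨j, P, hP, hmem⟩

/-- A polynomial made homogeneous and divisible by a variable. -/
noncomputable def homMul {R : Type*} [CommRing R] {n : ℕ} (j : Fin (n + 1)) (p : MvPolynomial (Fin (n + 1)) R) :
    MvPolynomial (Fin (n + 1)) R :=
  ∑ s ∈ p.support, MvPolynomial.monomial (s + Finsupp.single j (p.totalDegree + 1 - s.degree)) (p.coeff s)

theorem isHomogeneous_homMul {R : Type*} [CommRing R] {n : ℕ} (j : Fin (n + 1)) (p : MvPolynomial (Fin (n + 1)) R) :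
    (homMul j p).IsHomogeneous (p.totalDegree + 1) := by
  refine MvPolynomial.IsHomogeneous.sum _ _ _ fun s hs => MvPolynomial.isHomogeneous_monomial _ ?_
  have : s.degree ≤ p.totalDegree := MvPolynomial.le_totalDegree hs
  simp only [map_add, Finsupp.degree_single]
  omega

theorem eval_homMul {R : Type*} [CommRing R] {n : ℕ} (j : Fin (n + 1)) (p : MvPolynomial (Fin (n + 1)) R)
    (φ : R →+* k) (v : Fin (n + 1) → k) :
    MvPolynomial.eval v (MvPolynomial.map φ (homMul j p)) =
      if v j = 0 then 0 else v j ^ (p.totalDegree + 1) * MvPolynomial.eval₂ φ (fun i => v i / v j) p := by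
  classical
  have hle : ∀ s ∈ p.support, s.degree ≤ p.totalDegree := fun s hs => MvPolynomial.le_totalDegree hs
  simp only [homMul, map_sum, MvPolynomial.map_monomial, MvPolynomial.eval_monomial]
  split_ifs with hv
  · refine Finset.sum_eq_zero fun s hs => ?_
    rw [Finsupp.prod_add_index' (fun _ => pow_zero _) (fun _ _ _ => pow_add _ _ _)]
    rw [Finsupp.prod_single_index (h := fun x e => v x ^ e) (pow_zero _), hv, zero_pow (by have := hle s hs; omega), mul_zero, mul_zero]
  · rw [MvPolynomial.eval₂_eq, Finset.mul_sum]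
    refine Finset.sum_congr rfl fun s hs => ?_
    rw [Finsupp.prod_add_index' (fun _ => pow_zero _) (fun _ _ _ => pow_add _ _ _), Finsupp.prod_single_index (h := fun x e => v x ^ e) (pow_zero _)]
    have hd : ∏ i ∈ s.support, v j ^ s i = v j ^ s.degree := by rw [Finset.prod_pow_eq_pow_sum]; rfl
    have hp : ∏ i ∈ s.support, (v i / v j) ^ s i = (∏ i ∈ s.support, v i ^ s i) / v j ^ s.degree := by
      rw [← hd, ← Finset.prod_div_distrib]
      exact Finset.prod_congr rfl fun i _ => div_pow _ _ _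
    rw [hp, Finsupp.prod]
    have hsplit : v j ^ (p.totalDegree + 1) = v j ^ (p.totalDegree + 1 - s.degree) * v j ^ s.degree := by
      rw [← pow_add, Nat.sub_add_cancel (by have := hle s hs; omega)]
    rw [hsplit]
    field_simp

theorem exists_hom_of_ker {B : Type u} [CommRing B] [Algebra k B] {n : ℕ} (c : Fin n → B)
    (hc : Function.Surjective (MvPolynomial.aeval (R := k) c)) (w : Fin n → k)
    (hw : RingHom.ker (MvPolynomial.aeval (R := k) c) ≤ RingHom.ker (MvPolynomial.aeval (R := k) w)) :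
    ∃ χ : B →ₐ[k] k, ∀ q, χ (MvPolynomial.aeval (R := k) c q) = MvPolynomial.aeval w q :=
  ⟨(MvPolynomial.aeval (R := k) c).liftOfSurjective hc (MvPolynomial.aeval w) hw,
    fun q => AlgHom.liftOfSurjective_apply _ _ _ _ q⟩

/-- The forms without singular sections form an open set. -/
theorem exists_poly_good [IsClosedImmersion ι] [Smooth (ι ≫ CohB1.ProjSpace.toSpec r k)] {d : ℕ}
    (G₀ : LefPen.Form r k d) (hG₀ : ¬ Bad ι G₀) :
    ∃ q : MvPolynomial (ForSys.Mon r d) k, MvPolynomial.eval (ForSys.formEquiv k r d G₀) q ≠ 0 ∧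
      ∀ G : LefPen.Form r k d, MvPolynomial.eval (ForSys.formEquiv k r d G) q ≠ 0 → ¬ Bad ι G := by
  classical
  haveI := fun j => piece_smooth ι j
  haveI := fun j => finiteType_piece ι j
  haveI := jacobsonSpace_of_immersion ι
  choose M E hE using fun j => exists_equations (k := k) (pbasis ι d j)
  choose b hb using fun j (t : Fin (M j)) (s : ForSys.Mon r d) => aeval_pcoord_surjective ι j (E j t s)
  have hker : ∀ j, ∃ S : Finset (MvPolynomial (Fin (r + 1)) k),
      Ideal.span (S : Set _) = RingHom.ker (MvPolynomial.aeval (R := k) (pcoord ι j)) := fun j =>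
    IsNoetherian.noetherian (RingHom.ker (MvPolynomial.aeval (R := k) (pcoord ι j)))
  choose S hS using hker
  let κ := Σ j : Fin (r + 1), (↥(S j) ⊕ Fin (M j))
  let p : κ → MvPolynomial (Fin (r + 1)) (MvPolynomial (ForSys.Mon r d) k) := fun
    | ⟨j, Sum.inl g⟩ => MvPolynomial.map MvPolynomial.C g.1
    | ⟨j, Sum.inr t⟩ => ∑ s, MvPolynomial.C (MvPolynomial.X s) * MvPolynomial.map MvPolynomial.C (b j t s)
  have hcomp : ∀ a : ForSys.Mon r d → k, (MvPolynomial.eval a).comp MvPolynomial.C = RingHom.id k := fun a => by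
    ext; simp
  have hinl : ∀ (a : ForSys.Mon r d → k) (w : Fin (r + 1) → k) j (g : ↥(S j)),
      MvPolynomial.eval₂ (MvPolynomial.eval a) w (p ⟨j, Sum.inl g⟩) = MvPolynomial.aeval w g.1 := fun a w j g => by
    show MvPolynomial.eval₂ _ w (MvPolynomial.map MvPolynomial.C g.1) = _
    rw [MvPolynomial.eval₂_map, hcomp]; rfl
  have hinr : ∀ (a : ForSys.Mon r d → k) (w : Fin (r + 1) → k) j (t : Fin (M j)),
      MvPolynomial.eval₂ (MvPolynomial.eval a) w (p ⟨j, Sum.inr t⟩) = ∑ s, a s * MvPolynomial.aeval w (b j t s) := fun a w j t => by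
    show MvPolynomial.eval₂ _ w (∑ s, _) = _
    rw [MvPolynomial.eval₂_sum]
    refine Finset.sum_congr rfl fun s _ => ?_
    rw [MvPolynomial.eval₂_mul, MvPolynomial.eval₂_C, MvPolynomial.eval₂_map, hcomp, MvPolynomial.eval_X]; rfl
  have hχ : ∀ j (P : Ideal Γ(X, BertiniHyp.piece ι j)), P.IsMaximal → ∀ (χ : Γ(X, BertiniHyp.piece ι j) →ₐ[k] k),
      (∀ x, x ∈ P ↔ χ x = 0) → ∀ G : LefPen.Form r k d, pform ι j G ∈ P ^ 2 →
      ∀ x : ↥(S j) ⊕ Fin (M j), MvPolynomial.eval₂ (MvPolynomial.eval (ForSys.formEquiv k r d G))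
        (fun i => χ (pcoord ι j i)) (p ⟨j, x⟩) = 0 := by
    intro j P hP χ hχ G hG x
    have hev : ∀ q : MvPolynomial (Fin (r + 1)) k, MvPolynomial.aeval (fun i => χ (pcoord ι j i)) q =
        χ (MvPolynomial.aeval (R := k) (pcoord ι j) q) := fun q => (MvPolynomial.comp_aeval_apply _ χ q).symm
    rcases x with g | t
    · rw [hinl, hev, (RingHom.mem_ker (f := MvPolynomial.aeval (R := k) (pcoord ι j))).1 ((hS j).le (Ideal.subset_span g.2)), map_zero]
    · rw [hinr]
      have h1 := (hχ _).1 ((hE j _ P hP).1 (by rwa [member_pbasis]) t)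
      simpa [map_sum, hev, hb] using h1
  have hzero : ∀ G : LefPen.Form r k d, Bad ι G → ∃ v : Fin (r + 1) → k, v ≠ 0 ∧ ∀ x : κ,
      MvPolynomial.eval v (MvPolynomial.map (MvPolynomial.eval (ForSys.formEquiv k r d G)) (homMul x.1 (p x))) = 0 := by
    rintro G ⟨i, P, hP, hbad⟩
    obtain ⟨χ, hχP⟩ := exists_point (k := k) P
    refine ⟨fun m => χ (pcoord ι i m), fun h => one_ne_zero (α := k) ?_, fun ⟨j, x⟩ => ?_⟩
    · have := congrFun h i
      simpa [pcoord_self] using this
    rw [eval_homMul]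
    split_ifs with hj
    · rfl
    refine mul_eq_zero_of_right _ ?_
    obtain ⟨Q, hQ, htr⟩ := transfer ι i j P (fun h => hj ((hχP _).1 h))
    obtain ⟨χ', hχ'⟩ := exists_point (k := k) Q
    have hcoord : (fun m => χ (pcoord ι i m) / χ (pcoord ι i j)) = fun m => χ' (pcoord ι j m) := by
      funext m
      let c : k := χ (pcoord ι i m) / χ (pcoord ι i j)
      let F : LefPen.Form r k 1 := (⟨MvPolynomial.X m, ProjPoint.X_mem m⟩ : LefPen.Form r k 1) -
        c • (⟨MvPolynomial.X j, ProjPoint.X_mem j⟩ : LefPen.Form r k 1)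
      have hF : ∀ l, pform ι l F = pcoord ι l m - algebraMap k _ c * pcoord ι l j := fun l => by
        rw [pform_eq_aeval]
        simp [F, Algebra.smul_def]
      have h1 := (htr 1 F).1 (by rw [hF, hχP]; simp [c, hj])
      rw [hF, hχ', pcoord_self, mul_one, map_sub, AlgHom.commutes, sub_eq_zero] at h1
      simpa [c] using h1.symm
    show MvPolynomial.eval₂ _ (fun m => χ (pcoord ι i m) / χ (pcoord ι i j)) _ = 0
    rw [hcoord]
    exact hχ j Q hQ χ' hχ' G ((htr d G).2 hbad) x
  have hbadv : ∀ v : Fin (r + 1) → k, v ≠ 0 → ∀ G : LefPen.Form r k d, (∀ x : κ,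
      MvPolynomial.eval v (MvPolynomial.map (MvPolynomial.eval (ForSys.formEquiv k r d G)) (homMul x.1 (p x))) = 0) →
      Bad ι G := by
    intro v hv G hall
    obtain ⟨j, hj⟩ := Function.ne_iff.1 hv
    have hj' : v j ≠ 0 := hj
    let w : Fin (r + 1) → k := fun i => v i / v j
    have hw : ∀ x : ↥(S j) ⊕ Fin (M j),
        MvPolynomial.eval₂ (MvPolynomial.eval (ForSys.formEquiv k r d G)) w (p ⟨j, x⟩) = 0 := fun x => by
      have h1 := hall ⟨j, x⟩
      rw [eval_homMul, if_neg hj'] at h1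
      exact (mul_eq_zero.1 h1).resolve_left (pow_ne_zero _ hj')
    have hkw : RingHom.ker (MvPolynomial.aeval (R := k) (pcoord ι j)) ≤ RingHom.ker (MvPolynomial.aeval (R := k) w) := by
      rw [← hS j, Ideal.span_le]
      intro g hg
      show MvPolynomial.aeval w g = 0
      exact (hinl (ForSys.formEquiv k r d G) w j ⟨g, hg⟩).symm.trans (hw (Sum.inl ⟨g, hg⟩))
    obtain ⟨χ, hχw⟩ := exists_hom_of_ker (pcoord ι j) (aeval_pcoord_surjective ι j) w hkw
    have hP : (RingHom.ker χ).IsMaximal := RingHom.ker_isMaximal_of_surjective χ fun c => ⟨algebraMap k _ c, χ.commutes c⟩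
    refine ⟨j, RingHom.ker χ, hP, ?_⟩
    rw [← member_pbasis, hE j _ _ hP]
    intro t
    rw [RingHom.mem_ker, map_sum]
    rw [← (hinr (ForSys.formEquiv k r d G) w j t).symm.trans (hw (Sum.inr t))]
    refine Finset.sum_congr rfl fun s _ => ?_
    rw [map_mul, AlgHom.commutes, ← hb j t s, hχw, Algebra.algebraMap_self_apply]
  obtain ⟨q, hq, hq'⟩ := exists_poly_no_zero (fun x : κ => homMul x.1 (p x)) (fun x => (p x).totalDegree + 1)
    (fun x => isHomogeneous_homMul _ _) (ForSys.formEquiv k r d G₀) (fun v hv => by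
      by_contra hv0
      exact hG₀ (hbadv v hv0 G₀ hv))
  refine ⟨q, hq, fun G hG hbad => ?_⟩
  obtain ⟨v, hv, hall⟩ := hzero G hbad
  exact hv (hq' _ hG v hall)

theorem notMem_sq_of_regular_quotient {R : Type u} [CommRing R] [IsRegularLocalRing R] {x : R} (hx0 : x ≠ 0)
    (h : IsRegularLocalRing (R ⧸ Ideal.span {x})) : x ∉ IsLocalRing.maximalIdeal R ^ 2 := by
  intro hx2
  haveI := DepthLib.isDomain_of_isRegularLocalRing R
  obtain ⟨S, hS, hspan⟩ := DepthLib.exists_lift_generators (Ideal.span {x})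
  have hfg : (IsLocalRing.maximalIdeal R).FG := IsNoetherian.noetherian _
  have hmS : IsLocalRing.maximalIdeal R ≤ Ideal.span (S : Set R) := by
    refine Submodule.le_of_le_smul_of_le_jacobson_bot hfg (IsLocalRing.maximalIdeal_le_jacobson _) ?_
    rw [smul_eq_mul, ← pow_two]
    calc IsLocalRing.maximalIdeal R = Ideal.span (S : Set R) ⊔ Ideal.span {x} := hspan.symm
      _ ≤ _ := sup_le_sup le_rfl ((Ideal.span_singleton_le_iff_mem _).2 hx2)
  have hne : (IsLocalRing.maximalIdeal R).spanFinrank ≤ (IsLocalRing.maximalIdeal (R ⧸ Ideal.span {x})).spanFinrank := by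
    rw [show IsLocalRing.maximalIdeal R = Ideal.span (S : Set R) from le_antisymm hmS (le_sup_left.trans hspan.le)]
    exact (Submodule.spanFinrank_span_le_ncard_of_finite S.finite_toSet).trans
      (by rw [Set.ncard_coe_finset]; exact hS)
  have h1 := ringKrullDim_succ_le_of_surjective (Ideal.Quotient.mk (Ideal.span {x})) Ideal.Quotient.mk_surjective
    (mem_nonZeroDivisors_of_ne_zero hx0) (Ideal.Quotient.eq_zero_iff_mem.mpr (Ideal.mem_span_singleton_self x))
  rw [← IsRegularLocalRing.spanFinrank_maximalIdeal (R := R ⧸ Ideal.span {x}),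
    ← IsRegularLocalRing.spanFinrank_maximalIdeal (R := R)] at h1
  have h2 : (IsLocalRing.maximalIdeal (R ⧸ Ideal.span {x})).spanFinrank + 1 ≤ (IsLocalRing.maximalIdeal R).spanFinrank := by
    exact_mod_cast h1
  omega

/-- Some form has no singular section. -/
theorem exists_good [IsClosedImmersion ι] [AlgebraicGeometry.IsIntegral X] [Smooth (ι ≫ CohB1.ProjSpace.toSpec r k)]
    {d : ℕ} (hd : 1 ≤ d) : ∃ G : LefPen.Form r k d, ¬ Bad ι G := by
  classical
  haveI := fun j => piece_smooth ι j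
  haveI := fun j => finiteType_piece ι j
  let eT := (Fintype.equivFin (ForSys.Mon r d)).symm
  have hmem : ∀ j (a : Fin (Fintype.card (ForSys.Mon r d)) → k),
      ∑ i, algebraMap k _ (a i) * pbasis ι d j (eT i) = member (pbasis ι d j) (a ∘ eT.symm) := fun j a =>
    Fintype.sum_equiv eT _ _ fun i => by simp [Function.comp]
  have hjet : ∀ j (P : Ideal Γ(X, BertiniHyp.piece ι j)), P.IsMaximal → ∀ y,
      ∃ c : Fin (Fintype.card (ForSys.Mon r d)) → k, y - ∑ i, algebraMap k _ (c i) * pbasis ι d j (eT i) ∈ P ^ 2 := by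
    intro j P hP y
    haveI := hP
    obtain ⟨χ, hχ⟩ := exists_point (k := k) P
    obtain ⟨w, hw⟩ := jet_surjective ι hd j (y, KaehlerDifferential.D k _ y)
    refine ⟨fun i => χ (w (eT i)), ?_⟩
    rw [hmem, show (fun i => χ (w (eT i))) ∘ eT.symm = fun s => χ (w s) by funext s; simp]
    have h1 : w - (fun s => algebraMap k _ (χ (w s))) ∈ P • (⊤ : Submodule Γ(X, BertiniHyp.piece ι j) (ForSys.Mon r d → Γ(X, BertiniHyp.piece ι j))) :=
      (mem_smul_top_pi P _).2 fun s => by rw [hχ]; simp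
    have h2 := map_mem_smul_top P (jet (k := k) (pbasis ι d j)) h1
    rw [map_sub, hw, jet_const, Prod.mk_sub_mk, mem_smul_top_prod, ← map_sub] at h2
    exact (mem_sq_iff (k := k) P _).2 h2
  choose p hp hps using fun j => BertiniZero.bertini_jets (k := k) (0 : Γ(X, BertiniHyp.piece ι j))
    (fun i => pbasis ι d j (eT i)) (hjet j)
  -- avoid forms vanishing on a piece
  have hnz : ∀ j : Fin (r + 1), ∃ l : MvPolynomial (Fin (Fintype.card (ForSys.Mon r d))) k, l ≠ 0 ∧
      ∀ a, MvPolynomial.eval a l ≠ 0 → Nonempty (BertiniHyp.piece ι j) → member (pbasis ι d j) (a ∘ eT.symm) ≠ 0 := fun j => by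
    by_cases hne : Nontrivial Γ(X, BertiniHyp.piece ι j)
    · obtain ⟨μ, hμ⟩ : ∃ μ : Γ(X, BertiniHyp.piece ι j) →ₗ[k] k, μ 1 ≠ 0 := by
        obtain ⟨μ, hμ⟩ := Module.Projective.exists_dual_ne_zero k (one_ne_zero (α := Γ(X, BertiniHyp.piece ι j)))
        exact ⟨μ, hμ⟩
      have hev : ∀ a : Fin (Fintype.card (ForSys.Mon r d)) → k,
          MvPolynomial.eval a (∑ i, MvPolynomial.C (μ (pbasis ι d j (eT i))) * MvPolynomial.X i) =
            μ (member (pbasis ι d j) (a ∘ eT.symm)) := fun a => by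
        rw [← hmem, map_sum, map_sum]
        refine Finset.sum_congr rfl fun i _ => ?_
        rw [← Algebra.smul_def, map_smul, map_mul, MvPolynomial.eval_C, MvPolynomial.eval_X, smul_eq_mul, mul_comm]
      refine ⟨_, fun h => hμ ?_, fun a ha _ h => ha (by rw [hev, h, map_zero])⟩
      have h1 := hev ((ForSys.formEquiv k r d ⟨MvPolynomial.X j ^ d, MvPolynomial.isHomogeneous_X_pow j d⟩) ∘ eT)
      rw [h, map_zero, show (ForSys.formEquiv k r d _ ∘ eT) ∘ eT.symm = ForSys.formEquiv k r d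
        ⟨MvPolynomial.X j ^ d, MvPolynomial.isHomogeneous_X_pow j d⟩ by funext s; simp, member_pbasis, pform_eq_aeval] at h1
      simpa [pcoord_self] using h1.symm
    · refine ⟨1, one_ne_zero, fun a _ ⟨x⟩ _ => hne ?_⟩
      exact (X.presheaf.germ _ x.1 x.2).hom.domain_nontrivial
  choose l hl hl' using hnz
  obtain ⟨a, ha⟩ : ∃ a, MvPolynomial.eval a ((∏ j, p j) * ∏ j, l j) ≠ 0 := by
    by_contra! hcon
    exact mul_ne_zero (Finset.prod_ne_zero_iff.2 fun j _ => hp j) (Finset.prod_ne_zero_iff.2 fun j _ => hl j)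
      (MvPolynomial.funext fun a => by rw [hcon a, map_zero])
  rw [map_mul, map_prod, map_prod, mul_ne_zero_iff, Finset.prod_ne_zero_iff, Finset.prod_ne_zero_iff] at ha
  refine ⟨(ForSys.formEquiv k r d).symm (a ∘ eT.symm), ?_⟩
  rintro ⟨j, P, hP, hbad⟩
  haveI := hP
  rw [← member_pbasis, LinearEquiv.apply_symm_apply] at hbad
  haveI : Nonempty (BertiniHyp.piece ι j) := ⟨⟨_, (pieceAff ι j).2.range_fromSpec.le ⟨⟨P, hP.isPrime⟩, rfl⟩⟩⟩
  haveI : IsDomain Γ(X, BertiniHyp.piece ι j) := inferInstance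
  have hG0 := hl' j a (ha.2 j (Finset.mem_univ j)) ‹_›
  have hsm := hps j a (ha.1 j (Finset.mem_univ j))
  rw [zero_add, hmem] at hsm
  haveI := CotLib.isGeometricallyReduced_of_isAlgClosed (k := k) (K := P.ResidueField)
  haveI : Algebra.IsSmoothAt k P := by
    show Algebra.FormallySmooth k (Localization.AtPrime P)
    exact Algebra.FormallySmooth.comp k Γ(X, BertiniHyp.piece ι j) _
  haveI : IsRegularLocalRing (Localization.AtPrime P) := (CotLib.isSmoothAt_iff_regular P).1 ‹_›
  haveI := hsm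
  refine notMem_sq_of_regular_quotient ?_ (BertiniHyp.regular_quotient_of_smooth (k := k) (member (pbasis ι d j) (a ∘ eT.symm)) P
    (Ideal.pow_le_self two_ne_zero hbad) (S := Localization.AtPrime P)) ?_
  · exact (map_ne_zero_iff _ (IsLocalization.injective (Localization.AtPrime P) P.primeCompl_le_nonZeroDivisors)).2 hG0
  · rw [← Localization.AtPrime.map_eq_maximalIdeal, ← Ideal.map_pow]
    exact Ideal.mem_map_of_mem _ hbad

/-- The singular forms make up an irreducible set. -/
theorem bad_irreducible [IsClosedImmersion ι] [AlgebraicGeometry.IsIntegral X] [Smooth (ι ≫ CohB1.ProjSpace.toSpec r k)]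
    {d : ℕ} (hd : 1 ≤ d) (f g : MvPolynomial (ForSys.Mon r d) k)
    (hfg : ∀ G : LefPen.Form r k d, Bad ι G → MvPolynomial.eval (ForSys.formEquiv k r d G) (f * g) = 0) :
    (∀ G : LefPen.Form r k d, Bad ι G → MvPolynomial.eval (ForSys.formEquiv k r d G) f = 0) ∨
      (∀ G : LefPen.Form r k d, Bad ι G → MvPolynomial.eval (ForSys.formEquiv k r d G) g = 0) := by
  classical
  haveI := fun j => piece_smooth ι j
  haveI := fun j => finiteType_piece ι j
  haveI := jacobsonSpace_of_immersion ι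
  let NE : Fin (r + 1) → Prop := fun j => Nonempty (BertiniHyp.piece ι j)
  have hdom : ∀ j, NE j → IsDomain Γ(X, BertiniHyp.piece ι j) := fun j hj => by
    haveI : Nonempty (BertiniHyp.piece ι j) := hj
    infer_instance
  choose Ψ hΨ using fun (j : {j // NE j}) =>
    haveI := hdom j.1 j.2
    exists_param (k := k) (pbasis ι d j.1) (jet_surjective ι hd j.1)
  have hvan : ∀ (q : MvPolynomial (ForSys.Mon r d) k), (∀ j, Ψ j q = 0) →
      ∀ G : LefPen.Form r k d, Bad ι G → MvPolynomial.eval (ForSys.formEquiv k r d G) q = 0 := by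
    rintro q hq G ⟨j, P, hP, hbad⟩
    have hne : NE j := ⟨⟨_, (pieceAff ι j).2.range_fromSpec.le ⟨⟨P, hP.isPrime⟩, rfl⟩⟩⟩
    exact (hΨ ⟨j, hne⟩ q).1 (hq _) _ P hP (by rwa [member_pbasis])
  have hzero : ∀ j, Ψ j (f * g) = 0 := fun j => by
    haveI := hdom j.1 j.2
    refine (hΨ j (f * g)).2 1 one_ne_zero fun a P hP _ hbad => ?_
    have := hfg ((ForSys.formEquiv k r d).symm a) ⟨j.1, P, hP, by rwa [← member_pbasis, LinearEquiv.apply_symm_apply]⟩
    rwa [LinearEquiv.apply_symm_apply] at this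
  by_cases hf : ∀ j, Ψ j f = 0
  · exact Or.inl (hvan f hf)
  push Not at hf
  obtain ⟨j₀, hj₀⟩ := hf
  haveI := hdom j₀.1 j₀.2
  have hg₀ : Ψ j₀ g = 0 := (mul_eq_zero.1 ((map_mul (Ψ j₀) f g).symm.trans (hzero j₀))).resolve_left hj₀
  refine Or.inr (hvan g fun l => ?_)
  haveI := hdom l.1 l.2
  have hc : pcoord ι l.1 j₀.1 ≠ 0 := by
    haveI : Nonempty (BertiniHyp.piece ι l.1) := l.2
    obtain ⟨x, hxl, hxj⟩ := nonempty_preirreducible_inter (BertiniHyp.piece ι l.1).isOpen (BertiniHyp.piece ι j₀.1).isOpen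
      (Set.nonempty_coe_sort.1 l.2) (Set.nonempty_coe_sort.1 j₀.2)
    intro h0
    have h1 := pform_germ ι (d := 1) ⟨MvPolynomial.X j₀.1, ProjPoint.X_mem j₀.1⟩ l.1 j₀.1 x hxl hxj
    simp only [pform_eq_aeval, MvPolynomial.aeval_X, pcoord_self, h0, map_zero, zero_mul, map_one] at h1
    exact one_ne_zero h1
  refine (hΨ l g).2 _ hc fun a P hP hcP hbad => ?_
  obtain ⟨Q, hQ, htr⟩ := transfer ι l.1 j₀.1 P hcP
  refine (hΨ j₀ g).1 hg₀ a Q hQ ?_
  have h1 := (htr d ((ForSys.formEquiv k r d).symm a)).2 (by rwa [← member_pbasis, LinearEquiv.apply_symm_apply])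
  rwa [← member_pbasis, LinearEquiv.apply_symm_apply] at h1

end Groth.Agent.LefDual
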